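import Cfsg.Agent.Cy.B
import Cfsg.Agent.Fgs1.Ko7

/-! Doubly transitive groups with a normal subgroup of odd prime order in the point stabiliser: projective lines. -/

set_option autoImplicit false
set_option linter.unusedSectionVars false

namespace CF.Cy

open MulAction Subgroup Cfsg CF.BG CF.Bender CF.ZD CF.Tw CF.Fisch
open CF.Hk
open scoped commutatorElement MatrixGroups

universe u v

variable {G : Type u} {Ω : Type v} [Group G] [Finite G] [MulAction G Ω] [Finite Ω]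
variable {p r : ℕ} {U : Ω → Subgroup G} {A E H K N P T W X Y : Subgroup G} {Δ Λ : Set Ω} {a b c d e : Ω}
  {g k s t u w x y z : G}

local notation "𝐒" => MulAction.stabilizer G

/-- the block through `a` and `b` is a projective line over the prime field -/
structure LN (p : ℕ) (U : Ω → Subgroup G) (a b : Ω) (z w : G) : Prop where
  ne : a ≠ b
  card : (Bl U a b).ncard = p + 1
  zF : z ∈ U a ⊔ U b
  zK : z ∈ 𝐂 (U a ⊔ U b)
  z2 : z * z = 1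
  uq : ∀ y ∈ U a ⊔ U b, y ∈ 𝐂 (U a ⊔ U b) → y = 1 ∨ y = z
  wF : w ∈ U a ⊔ U b
  wa : w • a = b
  wb : w • b = a
  w2 : w * w = z
  inv : ∀ x ∈ D2 G a b, w * x * w⁻¹ * x ∈ 𝐂 (U a ⊔ U b)
  inv' : ∀ x ∈ U a ⊔ U b, x ∈ D2 G a b → w * x * w⁻¹ = x⁻¹
  sq : ∀ g : G, g • a = a → ∃ τ ∈ U a ⊔ U b, τ ∈ D2 G a b ∧ τ⁻¹ * (g * g) ∈ 𝐂 (U a)
  tor : ∀ r : ℕ, r.Prime → r ∣ p - 1 → r ≠ 2 → ∃ f ∈ U a ⊔ U b, f ∈ D2 G a b ∧ f ^ r = 1 ∧ f ∉ 𝐂 (U a)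
  tor2 : 5 ≤ p → ∃ f ∈ U a ⊔ U b, f ∈ D2 G a b ∧ f ^ (p - 1) = 1 ∧ f ∉ 𝐂 (U a)
  fix : p % 4 = 1 → ∀ l ∈ U a ⊔ U b, l * l ∈ 𝐂 (U a ⊔ U b) → ∃ c ∈ Bl U a b, l • c = c
  j4 : p % 4 = 1 → z = 1 → ∀ u : G, u * u = 1 → u • a = b → (∀ c ∈ Bl U a b, u • c ≠ c) →
    ∃ t ∈ U a ⊔ U b, t ∈ D2 G a b ∧ Iv t ∧ t * u = u * t ∧ ∃ g ∈ U a ⊔ U b, g * u * g⁻¹ = t * u

theorem nat_of_prime {F : Type*} [Field F] [Fintype F] (hp : p.Prime) (c : Fintype.card F = p) (t : F) : ∃ n : ℕ, t = n := by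
  obtain ⟨x, rfl⟩ := (ZMod.ringEquivOfPrime F hp c).surjective t
  haveI := Fact.mk hp
  exact ⟨x.val, by rw [← map_natCast (ZMod.ringEquivOfPrime F hp c), ZMod.natCast_zmod_val]⟩

theorem der_le_of (ab : Abel X) (n : X ≤ 𝐍 E) (l : H ≤ E ⊔ X) : ⁅H, H⁆ ≤ E :=
  (commutator_mono l l).trans (comm_sup_le (comm_le_left (sup_le (le_norm_self E) n))
    (comm_sup_le' (comm_le_right n) ((der_eq_bot.2 ab).le.trans bot_le) (le_norm_self E) n) (le_norm_self E) n)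

namespace CY
variable (h : CY p U)
include h

theorem reg (n : a ≠ b) (l : (Bl U a b).ncard = p + 1) (hc : c ∈ Bl U a b) (hd : d ∈ Bl U a b) (he : e ∈ Bl U a b) (m : d ≠ c)
    (m' : e ≠ c) : ∃ x ∈ U c, x • d = e :=
  trans_of_card (S := Bl U a b \ {c}) (Set.toFinite _) (fun g hg => ⟨h.smul' (hc hg) hd, ne_of_fix (h.self hg) m⟩) (by
    have := Set.ncard_sdiff_singleton_add_one hc
    rw [relIndex_of_inf_bot (K := 𝐒 d) (eq_bot_of_forall fun x hx => h.semi hx.2 m.symm hx.1), h.card]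
    omega) ⟨he, m'⟩

theorem ln (n : a ≠ b) (l : (Bl U a b).ncard = p + 1) (nr : p = 3 ∨ ¬ ∃ E, SR (𝐍 (U a ⊔ U b)) (Bl U a b) E) :
    ∃ z w, LN p U a b z w := by
  classical
  have s := h.sb_bl n
  obtain ⟨_, f, Q, e⟩ := exists_pb_sub s.st
  have act : ∀ (x : 𝐍 (U a ⊔ U b)) (c d : Bl U a b), x • c = d ↔ (x : G) • (c : Ω) = d := fun x c d => by
    rw [← Q.iff x.2, e]
  have mem : ∀ (x : 𝐍 (U a ⊔ U b)) (c : Bl U a b), x ∈ Q.rt U c ↔ (x : G) ∈ U c := fun x c => Q.mem_im.trans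
    ⟨fun ⟨y, hy, k, e1⟩ => by rwa [← e1, e ⟨y, k⟩], fun k => ⟨x, k, x.2, e x⟩⟩
  have val : ∀ (x : 𝐍 (U a ⊔ U b)) (c : Bl U a b), ((x • c : Bl U a b) : Ω) = (x : G) • (c : Ω) := fun x c => ((act x c _).1 rfl).symm
  have R : RS (Q.rt U) := ⟨fun g c x hx => (mem _ _).2 (val g c ▸ h.conj ((mem _ _).1 hx) g),
    fun hx => (act _ _ _).2 (h.self ((mem _ _).1 hx)), fun {c d d'} m m' =>
      let ⟨x, hx, k⟩ := h.reg n l c.2 d.2 d'.2 (Subtype.val_injective.ne m) (Subtype.val_injective.ne m')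
      ⟨⟨x, s.le c c.2 hx⟩, (mem _ _).2 hx, (act _ _ _).2 k⟩,
    fun hx m k => Subtype.ext (h.semi ((mem _ _).1 hx) (Subtype.val_injective.ne m).symm ((act _ _ _).1 k)),
    fun c => (((h.abel c).nil).subgroupOf _).map _, fun c => ((h.card c ▸ h.odd).of_dvd_nat
      (card_comap_dvd_of_injective _ _ (subtype_injective _))).of_dvd_nat (card_map_dvd _ _)⟩
  have cu : (Set.univ : Set (Bl U a b)).ncard = p + 1 := (Set.ncard_univ _).trans l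
  have pt : ∀ x : 𝐍 (U a ⊔ U b), x ∈ Pt _ (Set.univ : Set (Bl U a b)) ↔ (x : G) ∈ 𝐂 (U a ⊔ U b) := fun x =>
    ⟨fun k => h.K_of n fun c hc => (act x ⟨c, hc⟩ ⟨c, hc⟩).1 (k _ trivial), fun k c _ => (act _ _ _).2 (h.K_pt k c.2)⟩
  have st : ∀ x : 𝐍 (U a ⊔ U b), x ∈ St _ (Set.univ : Set (Bl U a b)) := fun x => St_univ.ge (mem_top x)
  have ll : ∀ x : 𝐍 (U a ⊔ U b), x ∈ LL (Q.rt U) Set.univ ↔ (x : G) ∈ U a ⊔ U b := fun x =>
    ⟨fun k => (LL_le_iff (X := (U a ⊔ U b).subgroupOf _)).2 (fun c _ y hy _ => c.2 ((mem _ _).1 hy)) k, fun k => by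
      have : ∀ c : Bl U a b, U c ≤ (LL (Q.rt U) Set.univ).map (Subgroup.subtype _) := fun c y hy =>
        ⟨⟨y, s.le c c.2 hy⟩, mem_LL trivial ((mem _ _).2 hy) (st _), rfl⟩
      obtain ⟨y, hy, k⟩ := sup_le (this ⟨a, ptl⟩) (this ⟨b, ptr⟩) k
      exact Subtype.ext k ▸ hy⟩
  have cube : ∀ q : ℕ, p + 1 ≠ q ^ 3 + 1 := fun q k => by
    have := (Nat.Prime.pow_eq_iff h.hp).1 (Nat.add_right_cancel k).symm; omega
  rcases Hk.main _ _ _ R Set.univ cl_univ (by have := h.p3; omega) with T | ⟨E, T⟩ | ⟨F, _, _, _, _, T⟩ | ⟨F, _, _, _, _, _, T⟩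
  rotate_left
  · refine absurd ⟨E.map (Subgroup.subtype _) ⊔ 𝐂 (U a ⊔ U b), ?_, fun c hc d hd => ?_, fun x hx c hc k => ?_, fun x hx =>
      mem_sup_right (h.K_of n hx.2)⟩ (nr.resolve_left fun k => by have := T.big; omega)
    · haveI := normalIn_top.1 ⟨le_top, St_univ.ge.trans T.nm⟩
      exact (normal_iff_map_subtype.1 ‹_›).sup ⟨cent_le_norm _, norm_le_norm_cent _⟩
    · obtain ⟨x, hx, k⟩ := T.tr ⟨c, hc⟩ trivial ⟨d, hd⟩ trivial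
      exact ⟨x, mem_sup_left ⟨x, hx, rfl⟩, (act _ _ _).1 k⟩
    · obtain ⟨_, ⟨y, hy, rfl⟩, κ, hκ, rfl⟩ := (mem_sup_norm ((map_subtype_le E).trans (norm_le_norm_cent _))).1 hx
      rw [mul_smul, h.K_pt hκ hc] at k
      rw [T.semi y hy ⟨c, hc⟩ trivial ((act _ _ _).2 k), h.Pt_bl n]
      simpa using hκ
  · exact absurd (cu.symm.trans T.card) (cube _)
  · exact absurd (cu.symm.trans T.card) (cube _)
  obtain ⟨F, _, _, q, π, T, ea, eb⟩ := T.at R (Set.mem_univ ⟨a, ptl⟩) (Set.mem_univ ⟨b, ptr⟩) fun k => n (congrArg Subtype.val k)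
  have cF : Fintype.card F = p := by have := T.card; omega
  have nat := nat_of_prime h.hp cF
  have d2 : ∀ x : 𝐍 (U a ⊔ U b), x ∈ D2 _ (q 1 0) (q 0 1) ↔ (x : G) ∈ D2 G a b := fun x => by
    rw [mem_D2, mem_D2, ea, eb, act, act]
  have πF : ∀ M, (π M : G) ∈ U a ⊔ U b := fun M => (ll _).1 (T.mem_L R M)
  have hD : ∀ x : F, x ≠ 0 → (π (hT x) : G) ∈ D2 G a b := fun x x0 => (d2 _).1 (T.hT_D x0)
  have hC : ∀ x : F, x ≠ 0 → x ^ 2 ≠ 1 → (π (hT x) : G) ∉ 𝐂 (U a) := fun x x0 x1 k =>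
    x1 ((T.sc_one (T.sc_hT x0)).1 ((pt _).2 (h.k0 k (hD x x0).2)))
  have hP : ∀ (x : F) (j : ℕ), x ≠ 0 → x ^ j = 1 → (π (hT x) : G) ^ j = 1 := fun x j x0 k => by
    rw [← SubgroupClass.coe_pow, ← map_pow, hT_pow x0, k, hT_one, map_one]; rfl
  have an := T.an_wT (t := 1) one_ne_zero
  refine ⟨π (-1), π (wT 1), n, l, πF _, (pt _).1 T.z_Pt, congrArg Subtype.val T.z_sq, fun y hy k =>
    (T.L_Pt R ((ll ⟨y, le_norm_self _ hy⟩).2 hy) ((pt _).2 k)).imp (congrArg Subtype.val) (congrArg Subtype.val), πF _,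
    (act _ ⟨a, ptl⟩ ⟨b, ptr⟩).1 (ea ▸ eb ▸ T.w_ab one_ne_zero), (act _ ⟨b, ptr⟩ ⟨a, ptl⟩).1 (ea ▸ eb ▸ T.w_ba one_ne_zero),
    congrArg Subtype.val (T.w_sq one_ne_zero), fun x hx => ?_, fun x hx k => ?_, fun g ga => ?_, fun r hr d r2 => ?_, fun l5 => ?_,
    fun p4 y hy k => ?_, fun p4 z1 u u2 ua fp => ?_⟩
  · obtain ⟨r, σ, k⟩ := T.rep_D R (st ⟨x, h.norm2 hx.1 hx.2⟩) ((d2 _).2 hx)
    obtain rfl : σ = ι₀ := RingEquiv.ext fun t => by obtain ⟨j, rfl⟩ := nat t; simp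
    refine (pt (π (wT 1) * ⟨x, _⟩ * (π (wT 1))⁻¹ * ⟨x, _⟩)).1
      ((T.sc_one (((an.mul_sc k T.toPd).mul (T.an_inv an) T.toPd).mul k)).2 ?_)
    have := Sc.ne k
    field_simp
  · obtain ⟨t, t0, k⟩ := T.L_D R ((ll ⟨x, le_norm_self _ hx⟩).2 hx) ((d2 _).2 k)
    obtain rfl : x = π (hT t) := congrArg Subtype.val k
    exact mul_inv_eq_iff_eq_mul.2 (congrArg Subtype.val (T.an_hT R an t0))
  · have hx : (π (upT 1) : G) ∈ U a := (mem _ ⟨a, ptl⟩).1 (ea ▸ T.root 1)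
    have m := conj_mem_of_norm (h.norm ga) hx
    obtain ⟨t, k⟩ := T.mem_U R (ea ▸ (mem ⟨_, s.le a ptl m⟩ ⟨a, ptl⟩).2 m) (st _)
    have x1 : (π (upT 1) : G) ≠ 1 := fun k => T.up_ne one_ne_zero (Subtype.ext k)
    have k : g * π (upT 1) * g⁻¹ = π (upT t) := congrArg Subtype.val k
    have t0 : t ≠ 0 := fun e => x1 (by simpa [e, upT_zero] using k)
    refine ⟨_, πF _, hD t t0, h.cent_of hx x1 (mul_inv_eq_iff_eq_mul.1 ?_)⟩
    have k2 : (π (hT t) : G) * π (upT 1) * (π (hT t) : G)⁻¹ = π (upT (t ^ 2 * 1)) := congrArg Subtype.val (T.conj_up R (T.sc_hT t0) 1)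
    obtain ⟨j, rfl⟩ := nat t
    have pw : ∀ t : F, (π (upT (j * t)) : G) = (π (upT t) : G) ^ j := fun t => by rw [← upT_pow, map_pow]; rfl
    calc _ = (π (hT j) : G)⁻¹ * (g * (g * π (upT 1) * g⁻¹) * g⁻¹) * π (hT j) := by group
      _ = _ := by rw [k, ← mul_one (j : F), pw, ← conj_pow, k, ← pw, mul_one, ← sq, ← mul_one ((j : F) ^ 2), ← k2]; group
  · haveI := Fact.mk hr
    obtain ⟨x, hx⟩ := exists_prime_orderOf_dvd_card' (G := Fˣ) r (by rwa [Nat.card_eq_fintype_card, Fintype.card_units, cF])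
    refine ⟨_, πF _, hD x x.ne_zero, hP x r x.ne_zero (by rw [← Units.val_pow_eq_pow_val, ← hx, pow_orderOf_eq_one]; rfl),
      hC x x.ne_zero fun k => r2 ((Nat.prime_dvd_prime_iff_eq hr Nat.prime_two).1 (hx ▸ orderOf_dvd_of_pow_eq_one (Units.ext k)))⟩
  · obtain ⟨x, hx⟩ := IsCyclic.exists_ofOrder_eq_natCard (α := Fˣ)
    rw [Nat.card_eq_fintype_card, Fintype.card_units, cF] at hx
    refine ⟨_, πF _, hD x x.ne_zero, hP x _ x.ne_zero (by rw [← Units.val_pow_eq_pow_val, ← hx, pow_orderOf_eq_one]; rfl),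
      hC x x.ne_zero fun k => ?_⟩
    have := Nat.le_of_dvd two_pos (hx ▸ orderOf_dvd_of_pow_eq_one (Units.ext k : x ^ 2 = 1))
    omega
  · by_cases m : y ∈ 𝐂 (U a ⊔ U b)
    · exact ⟨a, ptl, h.K_a m⟩
    have hl := (ll ⟨y, le_norm_self _ hy⟩).2 hy
    obtain ⟨c, -, k⟩ := (T.tr_fix' (T.tr_of (T.s1_L R hl) ((pt _).2 k) (mt (pt _).1 m))).2 (iff_of_true (T.dp_L R hl) (cF ▸ p4))
    exact ⟨c, c.2, (act _ _ _).1 k⟩
  · have ub : u • b = a := by rw [← ua, smul_smul, u2, one_smul]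
    have hu := h.norm2' ua ub
    have tr := (T.tr_of_fpf R (st ⟨u, hu⟩) ((pt _).2 (u2 ▸ one_mem _ : u * u ∈ _)) fun c _ k => fp c c.2 ((act _ _ _).1 k)).1
    obtain ⟨r, k⟩ := T.an_of R tr.s1 (ea ▸ eb ▸ (act _ _ _).2 ua) (ea ▸ eb ▸ (act _ _ _).2 ub)
    obtain ⟨i, hi⟩ := (neg_one_sq T.two).2 (cF ▸ p4)
    have i0 : i ≠ 0 := by rintro rfl; simp at hi
    have t2 : (π (hT i) : G) * π (hT i) = 1 := by rw [← z1, ← Subgroup.coe_mul, ← map_mul, hT_mul i0 i0, ← hi, hT_neg_one]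
    obtain ⟨g, hg, e1⟩ := T.conj_J R tr (T.mem_L R (hT i)) ((T.sc_hT i0).mul_an k).tr
    refine ⟨_, πF _, hD i i0, ⟨fun k => hC i i0 (fun k => T.two (by linear_combination -k - hi)) (k ▸ one_mem _), t2⟩, ?_,
      g, (ll g).1 hg, congrArg Subtype.val e1⟩
    have := congrArg Subtype.val (T.an_hT R k i0)
    rw [← inv_eq_of_mul_eq_one_right t2]
    exact this.symm.trans (by rw [inv_eq_of_mul_eq_one_right t2]; rfl)

theorem sr_le (s : Sb U N Λ) (r : SR N Λ E) (ha : a ∈ Λ) (hb : b ∈ Λ) : U a ⊔ U b ≤ E ⊔ U a := by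
  obtain ⟨e, he, rfl⟩ := r.tr a ha b hb
  exact sup_le le_sup_right (h.cj e a ▸ cj_le_of_mem (mem_sup_left he) le_sup_right)

theorem sr_two (s : Sb U N Λ) (r : SR N Λ E) (ha : a ∈ Λ) (hb : b ∈ Λ) (l : T ≤ U a ⊔ U b) (k : PiGrp {2} T) : T ≤ E :=
  have n := (s.le a ha).trans r.nm.norm
  k.le_of_relIndex (l.trans (h.sr_le s r ha hb)) (sup_le (le_norm_self E) n) (by
    rw [relIndex_sup_norm' (.inl n)]; exact (h.pi2 a).dvd (relIndex_dvd_card _ _))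

theorem sr_odd (s : Sb U N Λ) (r : SR N Λ E) (o : Λ.ncard % 2 = 1) (ha : a ∈ Λ) (hb : b ∈ Λ) (n : a ≠ b) : Odd (♯(U a ⊔ U b)) := by
  obtain ⟨T, hT⟩ := exists_syl 2 (U a ⊔ U b)
  have l : T ≤ Pt G Λ := hT.pi.le_of_relIndex (h.sr_two s r ha hb hT.le hT.pi) (r.nm.le.trans (s.st.trans St_norm_Pt)) (by
    rw [← inf_relIndex_right, show Pt G Λ ⊓ E = 𝐒 a ⊓ E from le_antisymm (fun x hx => ⟨hx.1 a ha, hx.2⟩)
      fun x hx => ⟨r.semi x hx.2 a ha hx.1, hx.2⟩, inf_relIndex_right,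
      ← ncard_of_trans (fun g hg => s.tt.inv g (r.nm.le hg) a ha) (r.tr a ha)]
    exact (piNat_compl_single Nat.prime_two).2 (by omega))
  have k := hT.burnside (inf_le_left.trans (cent_symm (l.trans (h.Pt_K s ha hb n))))
  exact odd_of_pi ((O_pi {2}ᶜ _).le (sup_le (k.le_O le_sup_left (h.pi2 a)) (k.le_O le_sup_right (h.pi2 b))))

theorem sr_sq (s : Sb U N Λ) (r : SR N Λ E) (o : Λ.ncard % 2 = 0) (hx : x ∈ E) : x * x ∈ Pt G Λ := by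
  obtain ⟨X, _, _, _, f, Q, e⟩ := Hk.exists_pb_faith s.st
  obtain ⟨a, ha, -⟩ := Ko.exists_pair s.big
  haveI := normal_subgroupOf_of_le_normalizer r.nm.norm
  have R : Ko.RG Λ (Q.im E) := ⟨Normal.map inferInstance _ fun y => let ⟨x, hx, k⟩ := Q.sur y; ⟨⟨x, hx⟩, k⟩, fun c d =>
    let ⟨x, hx, k⟩ := r.tr c c.2 d d.2; ⟨f x, Q.im_mem hx (r.nm.le hx), (Q.iff (r.nm.le hx)).2 k⟩, fun c y hy k => by
      obtain ⟨x, hx, k', rfl⟩ := Q.mem_im.1 hy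
      exact e x k' (r.semi x hx c c.2 ((Q.iff k').1 k))⟩
  have m := r.nm.le hx
  exact Q.ker (mul_mem m m) ((Q.mul m m).trans (R.sq (h.pb_cy s Q e).toT2 o ⟨a, ha⟩ (Q.im_mem hx m)))

theorem sr_mv (n : a ≠ b) (m : c ≠ d) (r : SR (𝐍 (U a ⊔ U b)) (Bl U a b) E) : ∃ E, SR (𝐍 (U c ⊔ U d)) (Bl U c d) E := by
  obtain ⟨g, rfl, rfl⟩ := h.tt a b c d n m
  refine ⟨BG.cj g E, by rw [← h.cj_F rfl rfl, ← cj_norm]; exact r.nm.cj g, fun c hc d hd => ?_, ?_, fun x hx => ?_⟩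
  · obtain ⟨c, rfl⟩ := MulAction.surjective g c
    obtain ⟨d, rfl⟩ := MulAction.surjective g d
    obtain ⟨e, he, k⟩ := r.tr c (h.smul_bl.1 hc) d (h.smul_bl.1 hd)
    exact ⟨_, conj_mem_cj.2 he, conj_smul k g⟩
  · rintro _ ⟨e, he, rfl⟩ c hc k
    obtain ⟨c, rfl⟩ := MulAction.surjective g c
    exact (Pt_cj fun _ => h.smul_bl).2 (r.semi e he c (h.smul_bl.1 hc) (by simpa [mul_smul] using k))
  · have := hx.2
    rw [h.Pt_bl m, ← h.cj_K rfl rfl] at this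
    exact cj_mono g (fun y hy => r.ker ⟨cent_le_norm _ hy, (h.Pt_bl n).ge hy⟩) this

end CY

end CF.Cy
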