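import Cfsg.Agent.Cy.E

/-! Doubly transitive groups with a normal subgroup of odd prime order in the point stabiliser: transitive subgroups. -/

set_option autoImplicit false
set_option linter.unusedSectionVars false

namespace CF.Cy

open MulAction Subgroup Cfsg CF.BG CF.Bender CF.ZD CF.Tw
open CF.Hk (St Pt PB)
open scoped commutatorElement

universe u v

variable {G : Type u} {Ω : Type v} [Group G] [Finite G] [MulAction G Ω] [Finite Ω]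
variable {p r : ℕ} {U : Ω → Subgroup G} {A E H K N P T W X Y : Subgroup G} {Δ Λ : Set Ω} {a b c d e : Ω}
  {f g k s t u w x y z : G}

local notation "𝐒" => MulAction.stabilizer G

/-- nontrivial `r`-subgroups of the kernel of a block fix only the points of the block -/
def Li (U : Ω → Subgroup G) (r : ℕ) : Prop :=
  ∀ (a b : Ω) (X : Subgroup G), a ≠ b → PiGrp {r} X → X ≠ ⊥ → X ≤ 𝐂 (U a ⊔ U b) → Fx Ω X ⊆ Bl U a b

theorem Li.elt (l : Li U r) (n : a ≠ b) (k : PiElt {r} x) (x1 : x ≠ 1) (hx : x ∈ 𝐂 (U a ⊔ U b)) (e : x • c = c) : c ∈ Bl U a b :=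
  l a b _ n k.zpowers (ne_bot_of_mem (mem_zpowers x) x1) (zpowers_le.2 hx) (fx_zp.2 e)

theorem swap_iv (ht : t ∈ X) (hu : u ∈ X) (i : Iv t) (j : Iv u) (o : Odd (orderOf (t * u))) :
    ∃ w ∈ X, w * w = 1 ∧ w * t * w⁻¹ = u :=
  let ⟨k, e⟩ := Invol.exists_invol_conj_of_odd i.sq j.sq o
  ⟨_, mul_mem ht (zpow_mem (mul_mem ht hu) k), Invol.mul_mul_self_of_inverts i.sq (by
    rw [Invol.conj_zpow_of_inverts (Invol.left_inverts_mul i.sq j.sq), zpow_neg]), e⟩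

theorem fx_off (hr : r.Prime) (k : PiGrp {r} T) (l : T ≤ 𝐒 a) (nd : ¬ r ∣ Nat.card Ω - 1) : ∃ d, d ≠ a ∧ T ≤ 𝐒 d :=
  Hk.Ks.exists_fx (Γ := {c | c ≠ a}) hr k (fun g hg c hc => ne_of_fix (l hg) hc) (by rwa [← Ks.ncard_ne a] at nd)

namespace LC
variable (h : LC p U)
include h

theorem bl_ev (n : a ≠ b) : (Bl U a b).ncard % 2 = 0 := by
  obtain ⟨z, w, l⟩ := h.ln a b n
  have := Nat.odd_iff.1 h.odd
  rw [l.card]; omega

theorem tC (a : Ω) : Tr a (𝐂 (U a)) :=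
  let ⟨b, n, _⟩ := h.exists_ne a a; let ⟨_, _, l⟩ := h.ln a b n.symm; h.trC l h.ev

theorem ex_out (n : a ≠ b) : ∃ c, c ∉ Bl U a b := (Set.ne_univ_iff_exists_notMem _).1 (h.out a b n)

theorem on1 (n : a ≠ b) (hc : c ∈ Bl U a b) (m : c ≠ a) : ∃ x ∈ U a, x • b = c := let ⟨_, _, l⟩ := h.ln a b n; h.onl l hc m

theorem st1 (n : a ≠ b) (ga : g • a = a) (hg : g • b ∈ Bl U a b) : ∃ x ∈ U a, x • b = g • b := let ⟨_, _, l⟩ := h.ln a b n; h.st l ga hg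

theorem fix1 (n : a ≠ b) (c : g ∈ 𝐂 (U a)) (hg : g • b ∈ Bl U a b) (o : PiElt {p}ᶜ g) : g • b = b :=
  let ⟨_, _, l⟩ := h.ln a b n; h.fixb l c hg o

theorem iv_pi (i : t * t = 1) : PiElt {p}ᶜ t := (sq_elt i).of_single' h.p2.symm

theorem leO (rp : r ≠ p) (l : U a ≤ X) (c : X ≤ 𝐂 (U a)) : U a ≤ 𝐎 {r}ᶜ X := le_O ⟨l, norm_of_cent c⟩ ((h.pi a).of_single_ne rp.symm)

theorem zst (n : a ≠ c) (ht : t ∈ 𝐂 (U a ⊔ U c)) (i : Iv t) (fx : ∀ d : Ω, t • d = d → d ∈ Bl U a c)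
    (uq : ∀ g ∈ 𝐂 (U a), g * t * g⁻¹ ∈ 𝐂 (U a ⊔ U c) → g * t * g⁻¹ = t) (hg : g ∈ 𝐂 (U a)) :
    t * (g * t * g⁻¹) ∈ 𝐎 {2}ᶜ (𝐂 (U a)) := by
  have ta := cent_anti le_sup_left ht
  have z := zstar_in i ta (fun g hg e => by
    have h1 := (𝐂 (U a)).mul_mem (mul_mem hg ta) (inv_mem hg)
    exact uq g hg (h.k0 h1 (h.fix1 n h1 (fx _ (comm_smul e.symm (h.K_b ht))) (h.iv_pi (i.conj g).sq)))) hg
  rwa [i.inv, mul_assoc, mul_assoc, ← mul_assoc g] at z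

theorem trO (n : a ≠ c) (ht : t ∈ 𝐂 (U a ⊔ U c)) (i : Iv t) (fx : ∀ d : Ω, t • d = d → d ∈ Bl U a c)
    (uq : ∀ g ∈ 𝐂 (U a), g * t * g⁻¹ ∈ 𝐂 (U a ⊔ U c) → g * t * g⁻¹ = t) : Tr a (𝐎 {2}ᶜ (𝐂 (U a))) := by
  refine (h.tC a).to n.symm fun g hg => ?_
  have z := h.zst n ht i fx uq hg
  obtain ⟨k, e⟩ := Invol.exists_pow_conj_of_odd i.sq (i.conj g).sq ((GW.odd_O _).of_dvd_nat (orderOf_dvd_card' z))
  have ho := pow_mem z k
  generalize (t * (g * t * g⁻¹)) ^ k = o at e ho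
  obtain ⟨x, hx, e'⟩ := h.st1 n (h.cfix (mul_mem (inv_mem (O_le _ _ ho)) hg)) (fx _ (comm_smul (show o⁻¹ * g * t = t * (o⁻¹ * g) by
    calc _ = o⁻¹ * (g * t * g⁻¹) * g := by group
      _ = _ := by rw [← e]; group) (h.K_b ht)))
  exact ⟨o * x, mul_mem ho (h.leO h.p2.symm (h.abel a) le_rfl hx), by rw [mul_smul, e', smul_smul, mul_inv_cancel_left]⟩

theorem trD (hr : r.Prime) (rp : r ≠ p) (li : Li U r) (nd : ¬ r ∣ Nat.card Ω - 1) (l : U a ≤ X) (c : X ≤ 𝐂 (U a)) (s : Sol X)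
    (t : Tr a X) : Tr a (𝐎 {r}ᶜ X) := by
  obtain ⟨T, hT⟩ := exists_syl r (O2 {r}ᶜ {r} X)
  have lT := (hT.le.trans (O2_le _ _ _)).trans c
  by_cases e : T = ⊥
  · refine t.mono fun x hx => ?_
    have := s.cent_le_O2 hT (mem_inf.2 ⟨hx, by simp [e]⟩)
    rwa [← hT.O_sup_eq, e, sup_bot_eq] at this
  obtain ⟨d, hd, fx⟩ := fx_off hr hT.pi (lT.trans (h.nC a).le) nd
  refine t.to hd fun x hx => ?_
  obtain ⟨y, hy, g, hg, rfl⟩ := hT.syl_frattini (O2_normal _ _ X) hx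
  obtain ⟨v, hv, τ, hτ, rfl⟩ := (mem_sup_norm' ((hT.le.trans (O2_le _ _ _)).trans (O_normal _ X).norm)).1 (hT.O_sup_eq.ge hy)
  obtain ⟨x, hx, k⟩ := h.st1 hd.symm (h.cfix (c hg.1)) (li a d T hd.symm hT.pi e (fun y hy => h.k0 (lT hy) (fx hy)) (fx_inv hg.2 fx))
  exact ⟨v * x, mul_mem hv (h.leO rp l c hx), by
    rw [mul_smul (v * τ), ← k, mul_smul, mul_smul, smul_smul τ, ← mem_cent.1 (lT hτ) x hx, mul_smul, fx hτ]⟩

theorem fin {q j : ℕ} (li : ∀ r, r.Prime → r ≠ p → Li U r) (hq : q.Prime) (e : Nat.card Ω = q ^ j + 1) (s : Sol (𝐂 (U a))) : Out G Ω := by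
  obtain ⟨m, hm⟩ := h.modn a
  obtain rfl : p = q := (Nat.prime_dvd_prime_iff_eq h.hp hq).1 (h.hp.dvd_of_dvd_pow (n := j) ⟨m, by omega⟩)
  obtain ⟨X, -, ⟨l, c, n, t⟩, mn⟩ := exists_minimal (P := fun X => U a ≤ X ∧ X ≤ 𝐂 (U a) ∧ 𝐒 a ≤ 𝐍 X ∧ Tr a X)
    ⟨h.abel a, le_rfl, (h.nC a).norm, h.tC a⟩
  refine h.out_of h.ev ⟨c.trans (h.nC a).le, n⟩ (PiGrp.nil (p := p) fun r hr d => by_contra fun rp => ?_) t
  exact (O_pi {r}ᶜ X).not_dvd' hr rfl ((mn _ ⟨h.leO rp l c, (O_le _ _).trans c, le_norm_O _ n, h.trD hr rp (li r hr rp) (fun d =>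
    rp ((Nat.prime_dvd_prime_iff_eq hr h.hp).1 (hr.dvd_of_dvd_pow (n := j) (by rwa [e] at d)))) l c (s.mono c) t⟩ (O_le _ _)).symm ▸ d)

theorem li (z1 : ∀ a b z w, LN p U a b z w → z = 1) (hr : r.Prime) (rp : r ≠ p) : Li U r := fun a b _ n k x1 le =>
  let ⟨z, w, l⟩ := h.ln a b n
  h.fx_le hr rp (fun a b z w l => z1 a b z w l ▸ piElt_one _) l k x1 le (z1 a b z w l ▸ one_mem _)

end LC

end CF.Cy
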