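import Cfsg.Agent.Cy.I

/-! Doubly transitive groups with a normal subgroup of odd prime order in the point stabiliser: Fermat primes. -/

set_option autoImplicit false
set_option linter.unusedSectionVars false

namespace CF.Cy

open MulAction Subgroup Cfsg CF.BG CF.Bender CF.ZD CF.Tw
open scoped commutatorElement

universe u v

variable {G : Type u} {Ω : Type v} [Group G] [Finite G] [MulAction G Ω] [Finite Ω]
variable {p r : ℕ} {U : Ω → Subgroup G} {A D E H K N P R S T W X Y : Subgroup G} {Δ Λ : Set Ω} {a b c d e : Ω}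
  {f g k s t u w x y z κ : G}

local notation "𝐒" => MulAction.stabilizer G

theorem exists_four (k : PiElt {2} x) (n : x * x ≠ 1) : ∃ y ∈ zpowers x, y ^ 4 = 1 ∧ y * y ≠ 1 := by
  obtain ⟨m, e⟩ := k.exists_pow (orderOf_pos x).ne'
  replace e := e ▸ pow_orderOf_eq_one x
  clear k
  induction m generalizing x with
  | zero => exact absurd (by rw [pow_zero, pow_one] at e; rw [e, one_mul]) n
  | succ m ih =>
    by_cases k : x * x * (x * x) = 1
    · exact ⟨x, mem_zpowers x, by rw [← k]; simp [pow_succ, mul_assoc], n⟩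
    · obtain ⟨y, hy, k⟩ := ih k (by rw [← pow_two, ← pow_mul, ← pow_succ', e])
      exact ⟨y, zpowers_le.2 (mul_mem (mem_zpowers x) (mem_zpowers x)) hy, k⟩

theorem inv_syl (i : w * w = 1) (n : w ∈ 𝐍 K) : ∃ R, PiGrp {2} R ∧ w ∈ R ∧ ⁅R, R⁆ ≤ K ∧ Syl 2 (R ⊓ K) K ∧ w ∈ 𝐍 (R ⊓ K) :=
  let ⟨R, s, l⟩ := exists_syl_le (le_sup_right : zpowers w ≤ K ⊔ zpowers w) (sq_elt i).zpowers
  ⟨R, s.pi, l (mem_zpowers w), der_le_of (abel_zpowers w) (zpowers_le.2 n) s.le, s.inf_normal (normalIn_sup_left (zpowers_le.2 n)),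
    zpowers_le.1 (norm_inf (norm_of_le l) (zpowers_le.2 n))⟩

namespace LZ
variable (h : LZ p U)
include h

theorem fxc (i : Iv u) (hu : u ∈ 𝐂 (U a)) : (Fx Ω (zpowers u)).ncard = p + 1 := by
  obtain ⟨c, -, m, e⟩ := second (Λ := Set.univ) i.sq (Set.ncard_univ Ω ▸ h.ev) (fun _ _ => trivial) trivial (h.cfix hu)
  obtain ⟨w, l⟩ := h.ln1 m.symm
  rw [← l.card, (Set.Subset.antisymm (fun d hd => (h.li h.z1 Nat.prime_two h.p2.symm).elt m.symm (sq_elt i.sq) i.ne (h.k0 hu e)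
    (fx_zp.1 hd)) (h.bl_fx (zpowers_le.2 (h.k0 hu e))) : Fx Ω (zpowers u) = _)]

variable (two : PiNat {2} (p - 1))
include two

theorem p4 : p % 4 = 1 := by
  have := h.five
  obtain ⟨_ | _ | j, e⟩ := two.exists_pow (by omega)
  · omega
  · omega
  · rw [pow_add, pow_add] at e; omega

theorem oddC (o : PiElt {2}ᶜ x) (e : x • a = a) : x ∈ 𝐂 (U a) :=
  o.mem_of_relIndex (show x ∈ 𝐒 a from e) (h.nC a).norm (two.compl_compl.dvd (h.rel le_rfl))

theorem beta_odd (X : Ext G Ω) (o : ∀ a b, a ≠ b → Odd (♯(𝐂 (U a ⊔ U b)))) : Out G Ω := by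
  have li := fun r => h.li (r := r) h.z1
  by_cases k : ∃ a b : Ω, a ≠ b ∧ ∃ x ∈ D2 G a b, PiElt {2} x ∧ x * x ≠ 1
  · obtain ⟨a, b, n, x, hx, k, x2⟩ := k
    obtain ⟨w, l⟩ := h.ln1 n
    have j : Sw a b w := ⟨l.w2, l.wa, n⟩
    obtain ⟨R, -, -, -, s, nT⟩ := inv_syl j.sq j.norm
    have one : ∀ y ∈ D2 G a b, PiElt {2} y → y ∈ 𝐂 (U a) → y = 1 := fun y hy k c => one_of_odd (o a b n) (h.k0 c hy.2) k
    have cy : ∀ T, Syl 2 T (D2 G a b) → Cyc T := fun T s => h.cyc_of (s.le.trans inf_le_left) fun y hy => one y (s.le hy) (s.pi.elt hy)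
    obtain ⟨g, -, m⟩ := s.syl_cj_le (zpowers_le.2 hx) k.zpowers
    obtain ⟨y, hy, y4, y2⟩ := exists_four (k.conj g) (fun e => x2 (by rwa [conj_mul, conj_eq_one_iff] at e))
    replace hy := m (cj_zpowers g x ▸ hy)
    have m := mul_mem (conj_mem_of_norm nT hy) hy
    obtain ⟨q, i, hq, e⟩ := X.pp a b _ (X.dh a b w y j hy.2 y4 y2
      (mul_eq_one_iff_eq_inv.1 (one_of_odd (o a b n) (l.inv y hy.2) (s.pi.elt m))) cy (fun g hg e => y2 (by
        have := h.der' hg.1 hy.2.1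
        rw [e, ← mul_inv_rev, inv_mem_iff] at this
        exact one _ (mul_mem hy.2 hy.2) (s.pi.elt (mul_mem hy hy)) this)) (by
        have := ncard_fx (Δ := (Set.univ : Set Ω)) (s.pi.elt hy).zpowers fun _ _ _ _ => trivial
        rw [Set.ncard_univ, Set.univ_inter, h.ev] at this
        exact this.symm)) n s (cy _ s).abel
    refine h.fin (a := a) li hq e (sol_of_odd (by_contra fun v => ?_))
    obtain ⟨t, ht, i⟩ := exists_iv v
    obtain ⟨c, -, m, e⟩ := second (Λ := Set.univ) i.sq (Set.ncard_univ Ω ▸ h.ev) (fun _ _ => trivial) trivial (h.cfix ht)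
    exact i.not_mem (o a c m.symm) (h.k0 ht e)
  push Not at k
  have sq : ∀ a b, a ≠ b → ∀ x ∈ D2 G a b, x * x ∈ 𝐂 (U a) := fun a b n x hx => by
    obtain ⟨y, y', hy, hy', y2, y2', rfl⟩ := exists_piPart {2} x
    rw [show y * y' * (y * y') = y * y * (y' * y') from Commute.mul_mul_mul_comm ((abel_zpowers _).mul_comm hy' hy) y y',
      k a b n y (zpowers_le.2 hx hy) y2, one_mul]
    exact mul_mem (h.oddC two y2' (fzp hx.1 hy')) (h.oddC two y2' (fzp hx.1 hy'))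
  have dec : ∀ a b, a ≠ b → ∀ g ∈ D2 G a b, ∃ φ ∈ U a ⊔ U b, g * φ⁻¹ ∈ 𝐂 (U a ⊔ U b) := fun a b n g hg => by
    obtain ⟨w, l⟩ := h.ln1 n
    obtain ⟨f, hf, fD, -, m⟩ := l.tor2 h.five
    obtain ⟨φ, hφ, e⟩ := h.two_mod hg.1 fD.1 (sq a b n g hg) (sq a b n f fD) m
    exact ⟨φ, zpowers_le.2 hf hφ, h.k0 e (fmul hg.2 (finv (fzp fD.2 hφ)))⟩
  have iv : ∀ a b, a ≠ b → ∀ u ∈ PS G a b, ∃ x ∈ U a ⊔ U b, x⁻¹ * u ∈ 𝐂 (U a ⊔ U b) := fun a b n u hu => by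
    obtain ⟨x, hx, e⟩ : ∃ x ∈ U a ⊔ U b, u * x⁻¹ ∈ 𝐂 (U a ⊔ U b) := hu.elim (fun k => dec a b n u (mem_D2.2 k)) fun k => by
      obtain ⟨w, l⟩ := h.ln1 n
      obtain ⟨φ, hφ, e⟩ := dec a b n (u * w) (mem_D2.2 ⟨by rw [mul_smul, l.wa, k.2], by rw [mul_smul, l.wb, k.1]⟩)
      exact ⟨φ * w⁻¹, mul_mem hφ (inv_mem l.wF), by simpa [mul_assoc] using e⟩
    exact ⟨x, hx, by simpa [mul_assoc] using conj_mem_of_norm' (norm_of_cent' le_rfl hx) e⟩
  have e := h.ce_of X h.ev o sq (fun a b n u hu _ => iv a b n u hu) fun a b u j => by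
    obtain ⟨w, l⟩ := h.ln1 j.ne
    obtain ⟨x, hx, e⟩ := iv a b j.ne u (.inr ⟨j.ab, j.ba⟩)
    obtain ⟨c, -, e⟩ := l.fix (h.p4 two) u (mem_of_odd (o a b j.ne) le_rfl hx e j.sq) (j.sq ▸ one_mem _)
    exact ⟨c, e⟩
  obtain ⟨a, -, b, -, n⟩ := Ko.exists_pair (Δ := (Set.univ : Set Ω)) (by have := h.big; rw [Set.ncard_univ]; omega)
  obtain ⟨w, l⟩ := h.ln1 n
  have := Set.ncard_lt_ncard (Set.ssubset_univ_iff.2 (h.out a b n))
  rw [l.card, Set.ncard_univ] at this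
  obtain ⟨m, hm⟩ := h.modn a
  have := h.five
  have := (Nat.prime_dvd_prime_iff_eq h.hp Nat.prime_three).1 (h.hp.dvd_of_dvd_pow (n := 3) ⟨m, by omega⟩)
  omega

theorem not_conj (j : Sw a b w) (hw : w ∈ 𝐂 (U e)) (hk : k ∈ 𝐂 (U a ⊔ U b)) (i : Iv k) (c : k * w = w * k) :
    s * w * s⁻¹ ≠ k * w := fun cj => by
  obtain ⟨w', l⟩ := h.ln1 j.ne
  have fp := fun c => h.sw_fpf (c := c) j.ne (h.bl_ev j.ne) hw j
  obtain ⟨t, ht, tD, it, ct, g, hg, e⟩ := l.j4 (h.p4 two) rfl w j.sq j.ab fp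
  have tK : t ∉ 𝐂 (U a ⊔ U b) := fun m => it.ne (h.FK j.ne ht m)
  have P : GW.FP k t := ⟨.mk' i.ne i.sq, .mk' it.ne it.sq, (mem_cent.1 hk t ht).symm, fun e => tK (e ▸ hk)⟩
  have key : ∀ v ∈ D2 G a b, ∀ (c : Ω) (y : G), w • c = c → v • c = c → y * w * y⁻¹ = v * w → v ∈ 𝐂 (U a ⊔ U b) :=
    fun v hv c y wc vc e => h.K_mv (mul_inv_cancel_right v w ▸ mul_mem (h.kl (e ▸ h.conjC hw y) (fmul vc wc))
      (inv_mem (h.kl hw wc))) hv.1 hv.2
  have d := card_dvd_ncard (P := GW.V4 k t) (S := Fx Ω (zpowers w)) (Set.toFinite _) (fun v hv _ hc => fx_zp.2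
    (comm_smul (mem_cent1.1 ((GW.V4_le (K := 𝐂₁ w)).2 ⟨mem_cent1.2 c, mem_cent1.2 ct⟩ hv)) (fx_zp.1 hc))) fun c hc v hv vc => by
    clear ‹k * w = w * k›
    replace hc := fx_zp.1 hc
    rcases P.mem.1 hv with rfl | rfl | rfl | rfl
    · rfl
    · exact absurd hc (fp c ((h.li h.z1 Nat.prime_two h.p2.symm).elt j.ne (sq_elt i.sq) i.ne hk vc))
    · exact absurd (key v tD c g hc vc e) tK
    · refine absurd (inv_mul_cancel_left k t ▸ mul_mem (inv_mem hk) (key _ (mul_mem (h.K_D hk) tD) c (g * s) hc vc ?_)) tK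
      rw [show g * s * w * (g * s)⁻¹ = g * (s * w * s⁻¹) * g⁻¹ by group, cj, ← mul_assoc, mem_cent.1 hk g hg, mul_assoc k t, ← e]
      group
  rw [P.card, h.fxc j.iv hw] at d
  have := h.p4 two
  omega

theorem two_dvd (n : a ≠ b) (o : ¬ Odd (♯(𝐂 (U a ⊔ U b)))) (m : c ≠ d) (l : P ≤ 𝐂 (U c ⊔ U d)) (k : PiGrp {2} P) : ♯P ∣ 2 := by
  obtain ⟨u, hu, i⟩ := exists_iv o
  obtain ⟨g, j⟩ := h.to_sw n i
  have hw := h.conjC (cent_anti le_sup_left hu) g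
  generalize g * u * g⁻¹ = w at j hw
  obtain ⟨R, r, wR, dR, s, -⟩ := inv_syl j.sq (norm_le_norm_cent _ (h.norm2' j.ab j.ba))
  have c : R ≤ 𝐂₁ w := (r.nil.eq_of_inf_norm_le (K := R ⊓ 𝐂₁ w) inf_le_left fun x hx => ⟨hx.1, by_contra fun m => by
    have c := mem_cent1.1 (conj_mem_of_norm hx.2 (mem_inf.2 ⟨wR, self_mem_cent1 w⟩)).2
    refine h.not_conj two j hw (dR (commutator_mem_commutator hx.1 wR)) ⟨fun e => m (mem_cent1.2 (commutatorElement_eq_one_iff_mul_comm.1 e)), ?_⟩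
      ?_ (s := x) (by rw [commutatorElement_def, inv_mul_cancel_right])
    · rw [commutatorElement_def, j.inv, Commute.mul_mul_mul_comm c.symm, j.sq, (j.iv.conj x).sq, one_mul]
    · rw [commutatorElement_def, inv_mul_cancel_right, ← mul_assoc, ← c, mul_inv_cancel_right]⟩).ge.trans inf_le_right
  have d := card_dvd_ncard (P := R ⊓ 𝐂 (U a ⊔ U b)) (S := Fx Ω (zpowers w)) (Set.toFinite _) (fun v hv c' hc => fx_zp.2
    (comm_smul (mem_cent1.1 (c hv.1)) (fx_zp.1 hc))) fun c hc v hv vc => by_contra fun v1 => h.sw_fpf n (h.bl_ev n) hw j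
      ((h.li h.z1 Nat.prime_two h.p2.symm).elt n (r.elt hv.1) v1 hv.2 vc) (fx_zp.1 hc)
  rw [h.fxc j.iv hw] at d
  replace d := (s.dvd_card (h.card_K n m ▸ card_dvd l) k).trans d
  have := h.p4 two
  obtain ⟨_ | _ | i, e⟩ := k.card_pow
  · simp [e]
  · simp [e]
  · rw [e, pow_add, pow_add] at d
    have := (Dvd.intro_left (2 ^ i) (by ring) : 4 ∣ _).trans d
    omega

theorem beta (X : Ext G Ω) (n2 : ∀ H : Subgroup G, H.index ≠ 2) : Out G Ω := by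
  by_cases o : ∀ a b, a ≠ b → Odd (♯(𝐂 (U a ⊔ U b)))
  · exact h.beta_odd two X o
  push Not at o
  obtain ⟨a, b, n, o⟩ := o
  have cy : ∀ c d P, c ≠ d → P ≤ 𝐂 (U c ⊔ U d) → PiGrp {2} P → ♯P = 1 ∨ ♯P = 2 := fun c d P m l k =>
    (Nat.dvd_prime Nat.prime_two).1 (h.two_dvd two n o m l k)
  obtain ⟨u, hu, i⟩ := exists_iv o
  obtain ⟨N, d, e⟩ := Ko.exists_sgn' (G := G) (Ω := Ω)
  obtain rfl := index_eq_one.1 (((Nat.dvd_prime Nat.prime_two).1 d).resolve_right (n2 N))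
  replace e := (e u (by rw [show u ^ 4 = u * u * (u * u) by simp [pow_succ, mul_assoc], i.sq, one_mul])).1 trivial
  rw [i.sq, h.fxc i (cent_anti le_sup_left hu), show Fx Ω (zpowers (1 : G)) = Set.univ from
    Set.eq_univ_of_forall fun c => fx_zp.2 (one_smul _ _), Set.ncard_univ] at e
  have := h.p4 two
  obtain ⟨T, s⟩ := exists_syl 2 (D2 G a b)
  have l := s.le.trans inf_le_left
  obtain ⟨q, j, hq, e⟩ := X.pp a b T (by omega) n s (h.abel_of l (by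
    rcases cy a b (T ⊓ 𝐂 (U a)) n (fun x hx => h.k0 hx.2 (s.le hx.1).2) s.pi.inf_left with k | k
    · exact card_eq_one.1 k ▸ bot_le
    · exact s.pi.cent_of_prime Nat.prime_two k (norm_inf (le_norm_self T) (l.trans (h.nC a).norm))))
  obtain ⟨P, s⟩ := exists_syl 2 (𝐂 (U a))
  obtain ⟨c, m, k⟩ := fx_off Nat.prime_two s.pi (s.le.trans (h.nC a).le) (by omega)
  refine h.fin (a := a) (fun r => h.li h.z1) hq e (GW.sol_of_npc (GW.npc_of_cyc s ?_))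
  rcases cy a c P m.symm (fun x hx => h.k0 (s.le hx) (k hx)) s.pi with k | k
  exacts [card_eq_one.1 k ▸ cyc_bot, cyc_of_prime (k ▸ Nat.prime_two)]

end LZ

end CF.Cy
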