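import Cfsg.Agent.Cy.J

/-! Doubly transitive groups with a normal subgroup of odd prime order in the point stabiliser: lines with a central involution. -/

set_option autoImplicit false
set_option linter.unusedSectionVars false

namespace CF.Cy

open MulAction Subgroup Cfsg CF.BG CF.Bender CF.ZD CF.Tw
open scoped commutatorElement

universe u v

variable {G : Type u} {Ω : Type v} [Group G] [Finite G] [MulAction G Ω] [Finite Ω]
variable {p r : ℕ} {U : Ω → Subgroup G} {A D E H K N P R S T V W X Y : Subgroup G} {Δ Λ : Set Ω} {a b c d e : Ω}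
  {f g k s t u w w' x y z z' : G}

local notation "𝐒" => MulAction.stabilizer G

theorem inv_mod {Q : Subgroup (Quo N)} (i : Iv z) (o : Odd (♯V)) (nz : z ∈ 𝐍 V) (n : N ⊴ V) (zN : z ∈ 𝐍 N) (l : Q ⊴ qt N V)
    (zQ : qe N z ∈ 𝐍 Q) (c : ∀ x ∈ V ⊓ 𝐂₁ z, qe N x ∈ Q → x ∈ N) (gen : V ≤ ⁅V, zpowers z⁆ ⊔ N) : qt N V ≤ 𝐂 Q := by
  have j := (GW.Iv.mk' i.ne i.sq).qe zN (GW.odd_le o n.le)
  have k := (GW.inv_of_cent_bot j zQ (GW.odd_le (odd_qt N o) l.le) (eq_bot_of_forall fun y hy => by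
    have := (qt_inf_cent (zpowers_le.2 zN) (zpowers_le.2 nz) (i.coprime (GW.odd_le o inf_le_left)) (.inl (cyc_zpowers z).sol)).ge
      (mem_inf.2 ⟨l.le hy.1, by rw [qt_zpowers zN, cent_zpowers]; exact hy.2⟩)
    rw [cent_zpowers] at this
    obtain ⟨x, hx, -, rfl⟩ := mem_qt.1 this
    exact qe_of_mem (c x hx hy.1))).comm_le_cent j l.norm
  rw [← qt_zpowers zN, ← qt_comm n.norm (zpowers_le.2 zN)] at k
  exact (qt_mono N gen).trans ((qt_sup_right ((comm_le_left (zpowers_le.2 nz)).trans n.norm)).le.trans k)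

/-- the blocks are lines of groups with a central involution -/
structure LB (p : ℕ) (U : Ω → Subgroup G) : Prop extends LC p U where
  nz : ∀ a b z w, LN p U a b z w → z ≠ 1

theorem CY.zc (h : CY p U) (l : LN p U a b z w) (l' : LN p U c d z' w') (z1 : z ≠ 1) (ga : g • a = c) (gb : g • b = d) :
    g * z * g⁻¹ = z' :=
  (l'.uq _ (h.cj_F ga gb ▸ conj_mem_cj.2 l.zF) (h.cj_K ga gb ▸ conj_mem_cj.2 l.zK)).resolve_left (mt conj_eq_one_iff.1 z1)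

namespace LB
variable (h : LB p U)
include h

section
variable (l : LN p U a b z w)
include l

theorem iv : Iv z := ⟨h.nz a b z w l, l.z2⟩

theorem fz (e : z • c = c) : c ∈ Bl U a b :=
  h.fx_le Nat.prime_two h.p2.symm (fun _ _ _ _ l => sq_elt l.z2) l (sq_elt l.z2).zpowers (ne_bot_of_mem (mem_zpowers z) (h.iv l).ne)
    (zpowers_le.2 l.zK) (mem_zpowers z) (fx_zp.2 e)

theorem uq (g : G) (hg : g ∈ 𝐂 (U a)) (k : g * z * g⁻¹ ∈ 𝐂 (U a ⊔ U b)) : g * z * g⁻¹ = z := by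
  obtain ⟨z', w', l'⟩ := h.ln a (g • b) (ne_of_fix (h.cfix hg) l.ne.symm).symm
  rw [h.zc l l' (h.iv l).ne (h.cfix hg) rfl] at k ⊢
  exact (l.uq z' ((h.F_eq l'.ne ptl (h.fz l' (h.K_b k)) l.ne).ge l'.zF) k).resolve_left (h.iv l').ne

theorem cz (hg : g ∈ 𝐂 (U a)) (c : g ∈ 𝐂₁ z) : ∃ x ∈ U a, x⁻¹ * g ∈ 𝐂 (U a ⊔ U b) :=
  let ⟨x, hx, e⟩ := h.st l (h.cfix hg) (h.fz l (comm_smul (mem_cent1.1 c) (h.K_b l.zK)))
  ⟨x, hx, h.k0 (mul_mem (h.abel a (inv_mem hx)) hg) (by rw [mul_smul, ← e, inv_smul_smul])⟩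

theorem ls (le : X ≤ 𝐂 (U a ⊔ U b)) (x1 : X ≠ ⊥) : Fx Ω X ⊆ Bl U a b ∨ SU p U (𝐂 X) (Fx Ω X) := by
  have la := le.trans (cent_anti le_sup_left)
  refine (h.lsub l (h.sb_fx l.ne le (tt_of ((h.bl_big l.ne).trans_le (Set.ncard_le_ncard (h.bl_fx le)))
    (fun _ hg _ => fx_inv (cent_le_norm _ hg)) fun c hc d hd e he n n' => ?_) le_rfl) (h.fx_ne x1) (h.bl_fx le ptl)
    (h.bl_fx le ptr)).imp_right And.right
  obtain ⟨z, w, l⟩ := h.ln c d n.symm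
  obtain ⟨z', w', l'⟩ := h.ln c e n'.symm
  obtain ⟨g, hg, k⟩ := h.tC c d e n n'
  have := h.zst l.ne l.zK (h.iv l) (fun _ => h.fz l) (h.uq l) hg
  rw [h.zc l l' (h.iv l).ne (h.cfix hg) k] at this
  obtain ⟨y, hy, -, k⟩ := swap_iv (X := 𝐂 X ⊓ 𝐂 (U c)) ⟨cent_symm (h.fx_K la hc hd) l.zF, cent_anti le_sup_left l.zK⟩
    ⟨cent_symm (h.fx_K la hc he) l'.zF, cent_anti le_sup_left l'.zK⟩ (h.iv l) (h.iv l')
    ((GW.odd_O _).of_dvd_nat (orderOf_dvd_card' this))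
  obtain ⟨x, hx, k⟩ := h.onl l' (h.fz l' (k ▸ conj_smul (h.K_b l.zK) y)) (ne_of_fix (h.cfix hy.2) n)
  exact ⟨x⁻¹ * y, mul_mem (inv_mem (h.fx_U la hc hx)) hy.1, fmul (finv (h.self hx)) (h.cfix hy.2), by rw [mul_smul, ← k, inv_smul_smul]⟩

theorem nd (le : X ≤ 𝐂 (U a ⊔ U b)) (x1 : X ≠ ⊥) (hr : r.Prime) (rp : r ≠ p) : ¬ r ∣ (Fx Ω X \ {a}).ncard := fun d => by
  rw [Set.ncard_sdiff_singleton_of_mem (h.bl_fx le ptl)] at d
  refine rp ((Nat.prime_dvd_prime_iff_eq hr h.hp).1 ?_)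
  rcases h.ls l le x1 with k | k
  · rwa [Set.Subset.antisymm k (h.bl_fx le), l.card] at d
  · exact hr.dvd_of_dvd_pow (by rwa [k.card] at d)

variable (cc : V ≤ 𝐂 (U a)) (o : Odd (♯V)) (n : MulAction.stabilizer G a ≤ 𝐍 V) (tr : Tr a V) (lA : U a ≤ V) (gen : V ≤ ⁅V, zpowers z⁆ ⊔ U a)
include cc o n tr lA gen

theorem pY : PiGrp {p} (V ⊓ 𝐒 b) := fun r hr d => by_contra fun rp => by
  obtain ⟨R, s⟩ := exists_syl r (V ⊓ 𝐒 b)
  have r1 := s.syl_ne_bot hr d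
  have le : R ≤ 𝐂 (U a ⊔ U b) := fun x hx => h.k0 (cc (s.le hx).1) (s.le hx).2
  have lV := s.le.trans inf_le_left
  have s1 : Syl r R V := syl_of_syl_norm lV (by
    obtain ⟨T, sT, lT⟩ := exists_syl_le (le_inf lV (le_norm_self R)) s.pi
    obtain ⟨e, he, k⟩ := Hk.Ks.exists_fx (Γ := Fx Ω R \ {a}) hr sT.pi
      (fun g hg x hx => ⟨fx_inv (sT.le hg).2 hx.1, ne_of_fix (h.cfix (cc (sT.le hg).1)) hx.2⟩) (h.nd l le r1 hr rp)
    obtain ⟨v, hv, rfl⟩ := tr b e l.ne.symm he.2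
    have := (s.cj v).card_le (K := T) (by rw [cj_inf, cj_of_mem hv, cj_stab]; exact le_inf (sT.le.trans inf_le_left) k) sT.pi
    exact eq_of_card_le lT (by rwa [card_cj] at this) ▸ sT)
  have zV := zpowers_le.2 (n (h.K_a l.zK))
  have zr : PiElt {r}ᶜ z := (sq_elt l.z2).of_single' fun e : 2 = r =>
    (Nat.not_even_iff_odd.2 o) (even_iff_two_dvd.2 (e ▸ d.trans (card_dvd inf_le_left)))
  have s2 : Syl r R (V ⊔ zpowers z) := s1.trans_idx le_sup_left (by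
    rw [relIndex_sup_norm' (.inl zV)]; exact zr.zpowers.dvd (relIndex_dvd_card _ _))
  have m := (hall_O_O2 {r} _).mem_normal ((O2_le _ _ _).trans (O_normal _ _).norm) (((sol_of_odd o).sup' (cyc_zpowers z).sol zV).cent_le_O2
    s2.inf_O2 (mem_inf.2 ⟨mem_sup_right (mem_zpowers z), cent_symm (inf_le_left.trans le) l.zF⟩)) zr
  exact (O_pi {r}ᶜ _).not_dvd' hr rfl (d.trans (card_dvd (inf_le_left.trans (gen.trans (sup_le
    ((commutator_mono le_rfl (zpowers_le.2 m)).trans (comm_le_right (le_sup_left.trans (O_normal _ _).norm)))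
    (h.leO rp (lA.trans le_sup_left) (sup_le cc (zpowers_le.2 (cent_anti le_sup_left l.zK)))))))))

theorem cV : V ⊓ 𝐂₁ z ≤ U a ⊔ (V ⊓ 𝐒 b) := fun g hg =>
  let ⟨x, hx, k⟩ := h.cz l (cc hg.1) hg.2
  mul_inv_cancel_left x g ▸ mul_mem_sup hx (mem_inf.2 ⟨mul_mem (inv_mem (lA hx)) hg.1, h.K_b k⟩)

theorem Y_le : V ⊓ 𝐒 b ≤ 𝐎 {p} V := by
  have zV := n (h.K_a l.zK)
  have zP := norm_O {p} V zV
  have pY := h.pY l cc o n tr lA gen
  have k := ((h.pi a).sup pY (.inr (norm_of_cent (inf_le_left.trans cc)))).le (h.cV l cc o n tr lA gen)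
  have e := inv_mod (Q := 𝐎 {p}ᶜ (qt (𝐎 {p} V) V)) (h.iv l) o zV (O_normal _ _) zP (O_normal _ _)
    (norm_O _ _ (qt_norm _ (zpowers_le.2 zV) (qe_mem_qt (mem_zpowers z) zP))) (fun x hx m => (qe_eq_one ((O_normal _ V).norm hx.1)).1
      (PiElt.eq_one ((k.elt hx).dvd (orderOf_qe_dvd ((O_normal _ V).norm hx.1))) ((O_pi _ _).elt m)))
    (gen.trans (sup_le_sup_left (le_O ⟨lA, norm_of_cent cc⟩ (h.pi a)) _))
  exact pY.le_of_relIndex inf_le_left (O_normal _ V).norm ((piGrp_qt_iff (O_normal _ V).norm).1 ((O_pi _ _).le ((le_inf le_rfl e).trans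
    ((sol_of_odd (odd_qt _ o)).cent_O_le ((O_compl_compl _ _).trans (O_qt_O _ _))))))

theorem Y_bot : V ⊓ 𝐒 b = ⊥ := by_contra fun y1 => by
  have lY := h.Y_le l cc o n tr lA gen
  have cV := h.cV l cc o n tr lA gen
  have YK : V ⊓ 𝐒 b ≤ 𝐂 (U a ⊔ U b) := fun x hx => h.k0 (cc hx.1) hx.2
  have lP := O_le {p} V
  have nP := le_norm_O {p} n
  have kP := O_pi {p} V
  have AP : U a ≤ 𝐎 {p} V := le_O ⟨lA, norm_of_cent cc⟩ (h.pi a)
  generalize 𝐎 {p} V = P at lY lP nP kP AP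
  have PS : P ≤ 𝐒 a := (lP.trans cc).trans (h.nC a).le
  have nE : 𝐒 a ≤ 𝐍 (P ⊓ centMod P (U a)) := norm_inf nP (norm_centMod nP (h.nU a).norm)
  have cE : ⁅P ⊓ centMod P (U a), V ⊓ 𝐒 b⁆ ≤ U a := (commutator_mono inf_le_right lY).trans (comm_centMod_le _ _)
  have AE : U a ≤ P ⊓ centMod P (U a) := le_inf AP (le_centMod.2 ⟨le_norm_self _, comm_le_left (PS.trans (h.nU a).norm)⟩)
  have lE : P ⊓ centMod P (U a) ≤ P := inf_le_left
  have mE : ∀ x ∈ P, x ∈ centMod P (U a) → x ∈ P ⊓ centMod P (U a) := fun x h1 h2 => ⟨h1, h2⟩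
  generalize P ⊓ centMod P (U a) = E at nE cE AE lE mE
  have EY : E ≤ 𝐂 (V ⊓ 𝐒 b) := (GW.comm_sup_cent_zp (.mk' (h.iv l).ne l.z2) (nE (h.K_a l.zK)) (GW.odd_le o (lE.trans lP))).ge.trans
    (sup_le (comm_eq_bot.1 (le_bot_iff.1 (three_subgroup (by simp) (by simp) (by simp)
      (by rw [comm_eq_bot.2 (zpowers_le.2 (cent_symm YK l.zF))]; simp) (by
        rw [commutator_comm (V ⊓ 𝐒 b)]
        exact (commutator_mono cE le_rfl).trans (comm_eq_bot'.2 (zpowers_le.2 (cent_anti le_sup_left l.zK))).le))))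
      fun g hg => by
        obtain ⟨x, hx, y, hy, rfl⟩ := (mem_sup_norm' (norm_of_cent (inf_le_left.trans cc))).1 (cV ⟨lP (lE hg.1), hg.2⟩)
        refine mul_mem (cent_symm (inf_le_left.trans cc) hx) (mem_cent.2 fun v hv => (commutatorElement_eq_one_iff_mul_comm.1 ?_).symm)
        exact h.semi (cE (commutator_mem_commutator (inv_mul_cancel_left x y ▸ mul_mem (inv_mem (AE hx)) hg.1) hv)) l.ne
          (fmul (fmul (fmul hy.2 hv.2) (finv hy.2)) (finv hv.2)))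
  have nW : 𝐙 E ⊴ 𝐒 a := ⟨inf_le_left.trans (lE.trans PS), nE.trans (norm_center E)⟩
  have AW : U a ≤ 𝐙 E := le_inf AE (cent_symm ((lE.trans lP).trans cc))
  have on : ∀ x ∈ 𝐙 E, ∀ u ∈ U a, (u⁻¹ * x) • b = b → x ∈ U a := fun x hx u hu e => inv_mul_eq_one.1
    (h.on nW (center_abel E) (inf_le_left.trans ((lE.trans lP).trans cc)) (mul_mem (inv_mem (AW hu)) hx) l.ne.symm e) ▸ hu
  have k : P ⊓ 𝐂 E ≤ U a := Fset.cm_le kP kP.inf_left (norm_inf_cent (le_norm_self P) (PS.trans nE)) (PS.trans (h.nU a).norm)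
    (inf_le_left.trans (PS.trans (h.nU a).norm)) fun x hx => by
    have m : x ∈ 𝐙 E := ⟨mE x hx.1.1 hx.2, hx.1.2⟩
    rcases h.ls l YK y1 with k | k
    · obtain ⟨u, hu, e⟩ := h.st l (nW.le m) (k (fx_inv (cent_le_norm _ (EY m.1)) (h.bl_fx YK ptr)))
      exact on x m u hu (by rw [mul_smul, ← e, inv_smul_smul])
    · obtain ⟨u, hu, e⟩ := k.ua a (h.bl_fx YK ptl) (𝐙 E) ⟨le_inf (inf_le_left.trans EY) nW.le, inf_le_right.trans nW.norm⟩
        (center_abel E) (kP.le (inf_le_left.trans lE)) x m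
      exact on x m u hu (e b (h.bl_fx YK ptr))
  exact y1 (eq_bot_of_forall fun y hy => h.semi (k ⟨lY hy, cent_symm EY hy⟩) l.ne hy.2)

theorem nilV : Nil V := by
  have zV := n (h.K_a l.zK)
  have zA := h.norm (h.K_a l.zK)
  have cV := h.cV l cc o n tr lA gen
  rw [h.Y_bot l cc o n tr lA gen, sup_bot_eq] at cV
  exact nil_of_qt_center (le_inf lA (cent_symm cc)) (Abel.nil (inv_mod (h.iv l) o zV ⟨lA, norm_of_cent cc⟩ zA (.refl _)
    (qt_norm _ (zpowers_le.2 zV) (qe_mem_qt (mem_zpowers z) zA)) (fun x hx _ => cV hx) gen))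

end

theorem main : Out G Ω := by
  obtain ⟨a, -, b, -, n⟩ := Ko.exists_pair (Δ := (Set.univ : Set Ω)) (by have := h.big; rw [Set.ncard_univ]; omega)
  obtain ⟨z, w, l⟩ := h.ln a b n
  have t := h.trO n l.zK (h.iv l) (fun _ => h.fz l) (h.uq l)
  have c := O_le {2}ᶜ (𝐂 (U a))
  have o := GW.odd_O (𝐂 (U a))
  have lA := h.leO h.p2.symm (h.abel a) le_rfl
  have nO := le_norm_O {2}ᶜ (h.nC a).norm
  generalize 𝐎 {2}ᶜ (𝐂 (U a)) = O at t c o lA nO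
  have i : GW.Iv z := .mk' (h.iv l).ne l.z2
  have zO := nO (h.K_a l.zK)
  have l0 : ⁅O, zpowers z⁆ ≤ O := comm_le_left (zpowers_le.2 zO)
  have n0 : 𝐒 a ≤ 𝐍 ⁅O, zpowers z⁆ := fun g hg => by
    have m := ne_of_fix hg n.symm
    obtain ⟨z', w', l'⟩ := h.ln a (g • b) m.symm
    obtain ⟨v, hv, e⟩ := t b _ n.symm m
    rw [← cj_eq_self, cj_comm, cj_of_norm (nO hg), cj_zpowers, h.zc l l' (h.iv l).ne hg rfl,
      ← h.zc l l' (h.iv l).ne (h.cfix (c hv)) e, ← cj_zpowers]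
    conv_lhs => rw [← cj_of_mem hv, ← cj_comm, cj_of_norm (norm_comm_left _ _ hv)]
  have lV := sup_le l0 lA
  have nV := norm_sup n0 (h.nU a).norm
  have tV : Tr a (⁅O, zpowers z⁆ ⊔ U a) := t.to n.symm fun x hx => by
    obtain ⟨v, hv, g, hg, rfl⟩ := (mem_sup_norm' (inf_le_left.trans (norm_comm_left _ _))).1 ((GW.comm_sup_cent_zp i zO o).ge hx)
    obtain ⟨x, hx, k⟩ := h.cz l (c hg.1) hg.2
    exact ⟨v * x, mul_mem_sup hv hx, by rw [mul_smul, mul_smul, ← mul_inv_cancel_left x g, mul_smul x, h.K_b k]⟩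
  exact h.out_of h.ev ⟨(lV.trans c).trans (h.nC a).le, nV⟩ (h.nilV l (lV.trans c) (GW.odd_le o lV) nV tV le_sup_right
    (sup_le_sup_right ((GW.comm_comm_zp i zO o).ge.trans (commutator_mono le_sup_left le_rfl)) _)) tV

end LB

theorem LC.main (h : LC p U) (X : Ext G Ω) (n2 : ∀ H : Subgroup G, H.index ≠ 2) : Out G Ω := by
  by_cases k : ∀ a b z w, LN p U a b z w → z = 1
  · have h : LZ p U := ⟨h, k⟩
    by_cases two : PiNat {2} (p - 1)
    · exact h.beta two X n2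
    · obtain ⟨r, k⟩ := not_forall.1 two
      push Not at k
      exact h.alpha k.1 k.2.1 k.2.2
  · push Not at k
    obtain ⟨a, b, z, w, l, z1⟩ := k
    refine LB.main ⟨h, fun c d z' w' l' => ?_⟩
    obtain ⟨g, ga, gb⟩ := h.tt a b c d l.ne l'.ne
    exact h.zc l l' z1 ga gb ▸ mt conj_eq_one_iff.1 z1

end CF.Cy
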