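import Cfsg.Agent.Cy.L2
import Cfsg.Agent.Fgs1.Ko13

/-! Doubly transitive groups with a normal subgroup of odd prime order in the point stabiliser: the induction. -/

set_option autoImplicit false
set_option linter.unusedSectionVars false

namespace CF.Cy

open MulAction Subgroup Cfsg CF.BG CF.Bender CF.ZD CF.Tw
open scoped commutatorElement

universe u v

/-- the results proved elsewhere -/
structure Hyp (p : ℕ) : Prop where
  t : ∀ (G : Type u) [Group G] [Finite G] (D : Set (Subgroup G)), TC p D → PiGrp {2} ⁅sSup D, sSup D⁆ ∨ UC p D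
  x : ∀ (G : Type u) (Ω : Type v) [Group G] [Finite G] [MulAction G Ω] [Finite Ω], Ko.T2 G Ω → 2 < Nat.card Ω →
    Nat.card Ω % 2 = 0 → Ext G Ω
  k : ∀ (G : Type u) (Ω : Type v) [Group G] [Finite G] [MulAction G Ω] [Finite Ω] (U : Ω → Subgroup G), CY p U →
    Nat.card Ω % 2 = 0 → (∀ H : Subgroup G, H.index ≠ 2) → (∀ a b, a ≠ b → 𝐂 (U a ⊔ U b) = ⊥) → Out G Ω
  a : ∀ (G : Type u) (Ω : Type v) [Group G] [Finite G] [MulAction G Ω] [Finite Ω] (U : Ω → Subgroup G), CY p U → Out G Ω → Af p U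

variable {G : Type u} {Ω : Type v} [Group G] [Finite G] [MulAction G Ω] [Finite Ω]
variable {p : ℕ} {U : Ω → Subgroup G} {A : Subgroup G} {a b : Ω} {t x : G}

local notation "𝐒" => MulAction.stabilizer G

theorem MC.out' (h : MC p U) (Y : Hyp.{u, v} p) (n2 : ∀ H : Subgroup G, H.index ≠ 2) : Out G Ω := by
  have X := Y.x G Ω h.toT2 h.big h.ev
  obtain ⟨a, -, b, -, n⟩ := Ko.exists_pair (Δ := (Set.univ : Set Ω)) (by have := h.big; rw [Set.ncard_univ]; omega)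
  by_cases e : Bl U a b = Set.univ
  · exact Y.k G Ω U h.toCY h.ev n2 fun c d m => eq_bot_of_forall fun x hx => h.ff x fun y =>
      h.K_pt (h.F_eq n (e.ge trivial) (e.ge trivial) m ▸ hx) (e.ge trivial)
  have out : ∀ c d, c ≠ d → Bl U c d ≠ Set.univ := fun c d m k => e ((h.bl_eq m (k.ge trivial) (k.ge trivial) n).trans k)
  by_cases r : ∃ c d E, c ≠ d ∧ SR (𝐍 (U c ⊔ U d)) (Bl U c d) E
  · obtain ⟨c, d, E, m, r⟩ := r
    have u := (Y.t G _ (h.tc m r ((Nat.mod_two_eq_zero_or_one _).resolve_right fun o =>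
      h.nr (h.odd_reg m (h.sr_odd (h.sb_bl m) r o ptl ptr m))))).resolve_left fun f => h.nr (h.flat f a)
    refine LC.main ⟨h, fun c d m => let ⟨_, _, _, _, k, _⟩ := h.uc u m; h.ln m k (.inl u.p3), out, .inr fun c d z w l => ?_⟩ X n2
    obtain ⟨y, hy, y1, k, -, f⟩ := h.uc u l.ne
    exact (l.uq y hy k).resolve_left y1 ▸ ⟨y1, f⟩
  have s : ∀ c d, c ≠ d → ((Bl U c d).ncard = p + 1 ∧ 5 ≤ p) ∨ S3 p U (𝐍 (U c ⊔ U d)) (Bl U c d) := fun c d m =>
    ((h.sub h.ih (h.sb_bl m) (out c d m)).resolve_left fun ⟨E, k⟩ => r ⟨c, d, E, m, k⟩).imp_right fun k => k.resolve_left fun k =>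
      let ⟨_, _, k, k'⟩ := k.z c ptl d ptr m; k (h.Pt_bl m ▸ k')
  by_cases p5 : 5 ≤ p
  · exact LC.main ⟨h, fun c d m => h.ln m ((s c d m).resolve_right fun k => by have := k.p3; omega).1
      (.inr fun ⟨E, k⟩ => r ⟨c, d, E, m, k⟩), out, .inl p5⟩ X n2
  · exact (h.s3_false X h.ev (fun c d m => (s c d m).resolve_left fun k => p5 k.2) n e).elim

theorem MC.out (h : MC p U) (Y : Hyp.{u, v} p) : Out G Ω := by
  have l : ∀ a, U a ≤ Ko.R2 ⊤ := fun a => Ko.le_R2 le_top (h.pi2 a)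
  have T := h.toT2.sub h.big h.ev
  obtain ⟨a, -, b, -, n⟩ := Ko.exists_pair (Δ := (Set.univ : Set Ω)) (by have := h.big; rw [Set.ncard_univ]; omega)
  have nr : ¬ EqF.Reg (Ko.R2 (⊤ : Subgroup G)) Ω := fun ⟨N, nm, tr, s⟩ => by
    obtain ⟨x, hx, e⟩ := tr a b
    have := h.O_bot h.nr ((Ko.R2_normal ⊤).O {2}) (O_pi _ _).sol ▸ le_O (normal_iff_map_subtype.1 nm) (PiGrp.map
      (piGrp_of_forall_elt fun y hy => sq_elt (Ko.RG.sq ⟨nm, tr, s⟩ T h.ev a hy)) _) ⟨x, hx, rfl⟩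
    exact n (by rw [← e, show x = 1 from Subtype.ext (mem_bot.1 this), one_smul])
  have k : MC p fun a => (U a).subgroupOf (Ko.R2 ⊤) := ⟨⟨T, h.hp, h.p2, h.big, fun a => (card_subgroupOf' (l a)).trans (h.card a),
    fun a x hx => h.self hx, fun g a => Subgroup.ext fun x => by
      rw [mem_cj, mem_subgroupOf, mem_subgroupOf, Subgroup.smul_def, ← h.cj, mem_cj]; rfl⟩, nr, h.ih⟩
  obtain ⟨-, R⟩ := (k.out' Y (Ko.index_R2 ⊤)).resolve_left nr
  refine h.out_of h.ev (a := a) (N := (𝐅 (stabilizer (Ko.R2 (⊤ : Subgroup G)) a)).map (Subgroup.subtype _)) ?_ ((F_nil _).map _)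
    fun c d m m' => let ⟨x, hx, e⟩ := R.tr m m'; ⟨x, ⟨x, hx, rfl⟩, e⟩
  rw [← F_map_subtype, show (stabilizer (Ko.R2 (⊤ : Subgroup G)) a).map (Subgroup.subtype _) = 𝐒 a ⊓ Ko.R2 ⊤ from
    Subgroup.ext fun x => ⟨by rintro ⟨x, hx, rfl⟩; exact ⟨hx, x.2⟩, fun hx => ⟨⟨x, hx.2⟩, hx.1, rfl⟩⟩]
  exact ((Ko.R2_normal ⊤).inf_left le_top).F

theorem Hyp.ih (Y : Hyp.{u, v} p) (n : ℕ) : IH.{u, v} p n := by
  induction n with
  | zero => exact fun _ _ _ _ _ _ _ l => absurd l (Nat.not_lt_zero _)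
  | succ n ih =>
    intro G Ω _ _ _ _ U l h
    by_cases r : EqF.Reg G Ω
    · exact .inl r
    · exact Y.a G Ω U h (MC.out ⟨h, r, fun X Λ _ _ _ _ V k => ih X Λ V (by omega)⟩ Y)

theorem CY.out (h : CY p U) (Y : Hyp.{u, v} p) : Out G Ω := by
  by_cases r : EqF.Reg G Ω
  exacts [.inl r, MC.out ⟨h, r, Y.ih _⟩ Y]

theorem big_of (h : Ko.T2 G Ω) (x1 : x ≠ 1) (e : x • a = a) : 2 < Nat.card Ω := by
  obtain ⟨b, m⟩ := not_forall.1 (mt (h.ff x) x1)
  have n : b ≠ a := fun k => m (k ▸ e)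
  exact Set.ncard_univ Ω ▸ two_lt_ncard (a := a) (b := b) (c := x • b) trivial trivial trivial n.symm (ne_of_fix e n) m

theorem t1_of (h : Ko.T2 G Ω) (a b : Ω) : ∃ g : G, g • a = b := by
  by_cases e : a = b
  exacts [⟨1, by rw [one_smul, e]⟩, let ⟨g, e, _⟩ := h.tt a b b a e (Ne.symm e); ⟨g, e⟩]

theorem cy_of (h : Ko.T2 G Ω) (c : (♯A).Prime) (c2 : ♯A ≠ 2) (n : A ⊴ 𝐒 a) : CY (♯A) (Hk.Ks.fam a A) := by
  obtain ⟨x, hx, x1⟩ := exists_mem_ne_one (ne_bot_of_prime_card c)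
  refine ⟨h, c, c2, big_of h x1 (n.le hx), fun b => ?_, fun b => ?_, fun g b => ?_⟩ <;> obtain ⟨k, rfl⟩ := t1_of h a b
  · rw [Hk.Ks.fam_eq n.norm, card_cj]
  · rw [Hk.Ks.fam_eq n.norm, ← cj_stab]; exact cj_mono k n.le
  · rw [Hk.Ks.fam_eq n.norm, smul_smul, Hk.Ks.fam_eq n.norm, cj_cj]

theorem two_reg (h : Ko.T2 G Ω) (c : ♯A = 2) (n : A ⊴ 𝐒 a) : EqF.Reg G Ω := by_contra fun r => by
  obtain ⟨t, ht, i⟩ := exists_iv (X := A) (by rw [c]; decide)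
  have ta : t • a = a := n.le ht
  have cen : ∀ g : G, g • a = a → g * t * g⁻¹ = t := fun g hg =>
    ((GW.Iv.mk' i.ne i.sq).mem_zpowers.1 (zpowers_eq_of_prime (c ▸ Nat.prime_two) ht i.ne ▸ n.conj_mem hg ht)).resolve_left (i.conj g).ne
  have fx : ∀ b, t • b = b → b = a := fun b e => by_contra fun m => i.ne (h.ff t fun d => by
    by_cases k : d = a
    · exact k ▸ ta
    obtain ⟨g, ga, rfl⟩ := h.tt a b a d (Ne.symm m) (Ne.symm k)
    exact cen g ga ▸ conj_smul e g)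
  refine i.ne (h.ff t fun d => ?_)
  obtain ⟨g, rfl⟩ := t1_of h a d
  have := zstar_in (M := ⊤) i trivial (fun g _ e => cen g (by
    have := fx _ (comm_smul e.symm ta)
    rw [mul_smul, mul_smul, ← eq_inv_smul_iff] at this
    exact inv_inv g ▸ finv (fx _ this))) (mem_top g)
  rw [h.O_bot r (O_normal _ _) (sol_of_odd (GW.odd_O _)), mem_bot, mul_inv_eq_one, mul_inv_eq_iff_eq_mul] at this
  rw [smul_smul, this, mul_smul, ta]

end CF.Cy
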