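import Cfsg.Agent.Cy.M2

/-! Doubly transitive groups with a normal subgroup of odd prime order in the point stabiliser: trivial kernels. -/

set_option autoImplicit false
set_option linter.unusedSectionVars false

namespace CF.Cy

open MulAction Subgroup Cfsg CF.BG CF.Bender CF.ZD CF.Tw
open scoped commutatorElement

universe u v
variable {G : Type u} {Ω : Type v} [Group G] [Finite G] [MulAction G Ω] [Finite Ω]
variable {p : ℕ} {U : Ω → Subgroup G} {a b : Ω} {g s t x y : G}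

local notation "𝐒" => MulAction.stabilizer G
local notation "𝐅" u:max => Fx Ω (zpowers u)

theorem n2_odd (ab : Abel (D2 G a b)) (j : Sw a b s) (hy : y ∈ D2 G a b) (o : PiElt {2}ᶜ y)
    (e : ∀ x ∈ Kv a b s, PiElt {2}ᶜ x → x = 1) : s * y * s⁻¹ = y := by
  have m := conj_mem_of_norm j.norm hy
  refine mul_inv_eq_one.1 (e _ ⟨mul_mem m (inv_mem hy), ?_⟩ ((o.conj s).mul o.inv (ab.mul_comm m (inv_mem hy))))
  rw [show s * (s * y * s⁻¹ * y⁻¹) * s⁻¹ = s * s * y * s⁻¹ * y⁻¹ * s * (s * s)⁻¹ by group, j.sq, ← congrArg (1 * y * s⁻¹ * y⁻¹ * · * 1⁻¹) j.inv,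
    ← congrArg (1 * y * · * y⁻¹ * s⁻¹ * 1⁻¹) j.inv.symm]
  group

theorem n2_four (X : Ko.CX t a b) (A : Ko.CA Ω t) (N : Ko.NC Ω t) : (𝐅 t).ncard ≤ 4 := by
  obtain ⟨s, j⟩ := X.exists_sw X.ne
  have key : ∀ c ∈ 𝐅 t, c ≠ a → ∀ u, Sw a c u → u * s = s * u → c = b := fun c hc n u i e => by
    have C := X.move n.symm X.ha hc
    rw [← i.ab, ← j.ab]
    rcases N.cm u (C.sw_c i) s (X.sw_c j) i.iv j.iv (C.sw_ne i) (X.sw_ne j) e with e | e
    · rw [eq_inv_of_mul_eq_one_left e, j.inv]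
    · rw [eq_mul_inv_of_mul_eq e, mul_smul, j.inv, j.ab, X.mem.2]
  have O := fun c hc n u (i : Sw a c u) => X.ca_mem A ((X.move n X.ha hc).sw_c i) i.iv
  have der : ∀ c ∈ 𝐅 t, c ≠ a → c ≠ b → ∀ u, Sw a c u → u * s * u⁻¹ = t * s := fun c hc n m u i => by
    rcases iv_zpowers X.iv (X.ca_der A (commutator_mem_commutator (O c hc n.symm u i) (O b X.hb X.ne s j))) with e | e
    · exact absurd (key c hc n u i (commutatorElement_eq_one_iff_mul_comm.1 e)) m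
    · exact mul_inv_eq_iff_eq_mul.1 e
  obtain ⟨c, hc, n, m⟩ : ∃ c ∈ 𝐅 t, c ≠ a ∧ c ≠ b := by
    by_contra! k
    exact X.big.not_ge ((Set.ncard_le_ncard (t := {a, b}) fun c hc => or_iff_not_imp_left.2 (k c hc)).trans
      (Set.ncard_insert_le _ _ |>.trans (by simp)))
  obtain ⟨u, i⟩ := X.exists_sw n.symm
  refine (Set.ncard_le_ncard (t := {a, b, c, u • b}) fun d hd => ?_).trans ((Set.ncard_insert_le _ _).trans (Nat.succ_le_succ
    ((Set.ncard_insert_le _ _).trans (Nat.succ_le_succ ((Set.ncard_insert_le _ _).trans (by simp))))))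
  by_contra k
  simp only [Set.mem_insert_iff, Set.mem_singleton_iff, not_or] at k
  obtain ⟨v, l⟩ := X.exists_sw (Ne.symm k.1)
  have hu := (X.move n.symm X.ha hc).sw_c i
  have he := Ko.cent_fx hu hd
  have ne : u • d ≠ a := fun e => k.2.2.1 (by rw [← i.ab, ← e, smul_smul, i.sq, one_smul])
  obtain ⟨w, r⟩ := X.exists_sw ne.symm
  have hw := X.ca_fix A (mul_mem (O _ he ne.symm w r) (mul_mem (O c hc n.symm u i) (O d hd (Ne.symm k.1) v l))) X.ha (by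
    rw [mul_smul, mul_smul, l.ab, r.ba])
  have c1 := mem_cent.1 (X.cw (X.sw_c j) (Ko.iv_elt j.iv)) _ hw
  have c2 : u * v * s = s * (u * v) := by
    have e1 := der c hc n m u i
    have e2 := der d hd k.1 k.2.1 v l
    rw [i.inv] at e1
    rw [mul_assoc, mul_inv_eq_iff_eq_mul.1 e2, ← e1, ← mul_assoc, ← mul_assoc, ← mul_assoc, i.sq, one_mul, mul_assoc]
  have := key _ he ne w r (mul_right_cancel (b := u * v) (by rw [mul_assoc s, ← c1, mul_assoc, mul_assoc, ← c2, mul_assoc]))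
  exact k.2.2.2 (by rw [← this, smul_smul, i.sq, one_smul])

theorem n2_card (X : Ko.CX t a b) (A : Ko.CA Ω t) (one : ∀ u : G, Iv u → IsConj t u) (N : Ko.NC Ω t) : Nat.card Ω = 28 := by
  obtain ⟨s, j⟩ := X.exists_sw X.ne
  have e : Ko.AS t a b = {s, s * t} := Set.ext fun u => ⟨fun hu => (X.ca_sw A j hu.2).imp
    (fun e => by rw [eq_inv_of_mul_eq_one_right e, j.inv]) fun e => by rw [← e, ← mul_assoc, j.sq, one_mul]; rfl, by
    rintro (rfl | rfl)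
    exacts [⟨one _ j.iv, j⟩, ⟨one _ (X.sw_t j).iv, X.sw_t j⟩]⟩
  have c := X.cnt1
  have := n2_four X A N
  have := X.big
  have := X.f4
  rw [X.cnt2 X.ev, e, Set.ncard_pair fun e => X.iv.ne (left_eq_mul.1 e), X.ev, show (𝐅 t).ncard = 4 by omega] at c
  exact c

theorem n2_two (X : Ko.CX t a b) (A : Ko.CA Ω t) (one : ∀ u : G, Iv u → IsConj t u) (n : t ∉ Ko.R2 (𝐂₁ t)) (hx : x ∈ D2 G a b)
    (k : PiElt {2} x) : x * x = 1 := by_contra fun m => by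
  obtain ⟨s, j⟩ := X.exists_sw X.ne
  obtain ⟨R, r, l⟩ := exists_syl_le (zpowers_le.2 (X.le hx)) k.zpowers
  have ab := X.abel one n r
  have hs := r.O_le (X.ca_mem A (X.sw_c j) j.iv)
  obtain ⟨g, e⟩ := isConj_iff.1 (one s j.iv)
  obtain ⟨q, -, hq, e⟩ := PG.burnside_fus (X.syl one r) (ab (X.mem_syl r)) (ab hs) (mem_top g) e
  obtain ⟨i, e'⟩ := X.mem_zp (k.mul k rfl) (mul_mem hx hx) m
  have hz := conj_mem_of_norm hq (l (zpow_mem_zpowers x i))
  generalize ez : q * x ^ i * q⁻¹ = z at hz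
  have z2 : z * z = s := by rw [← ez, conj_mul, ← e, ← e', ← (Commute.refl x).mul_zpow]
  obtain ⟨u, hu, c⟩ := A a X.ha _ (Ko.cent_fx (r.le hz) X.ha)
  have hu' := r.O_le hu
  have c' : (u⁻¹ * z) • a = a := by rw [mul_smul, ← c, inv_smul_smul]
  refine X.ne (Eq.trans ?_ j.ab)
  rw [← z2, show z * z = u * u * (u⁻¹ * z * (u⁻¹ * z)) by
    rw [mul_assoc u⁻¹, ← mul_assoc z, ab.mul_comm hz (inv_mem hu')]; group, mul_smul, fmul c' c', Ko.W_smul (X.ca_sq A hu) X.ha]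

namespace CY
variable (h : CY p U) (k : ∀ a b, a ≠ b → 𝐂 (U a ⊔ U b) = ⊥)
include h k

theorem n2_one (c : g ∈ 𝐂 (U a)) (n : b ≠ a) (e : g • b = b) : g = 1 := by
  have := h.k0 c e
  rwa [k a b n.symm] at this

theorem n2_kt : Ko.KT G Ω := ⟨h.toT2, fun _ _ n => h.cyc_of inf_le_left fun _ hx c => h.n2_one k c n.symm hx.2⟩

variable (ev : Nat.card Ω % 2 = 0)
include ev

theorem n2_pp (e : ∃ r j : ℕ, r.Prime ∧ Nat.card Ω = r ^ j + 1) : Out G Ω := by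
  obtain ⟨r, j, hr, e⟩ := e
  obtain ⟨a, -, b, -, n⟩ := Ko.exists_pair (Δ := (Set.univ : Set Ω)) (by have := h.big; rw [Set.ncard_univ]; omega)
  obtain ⟨m, e'⟩ := h.modn a
  obtain rfl : p = r := (Nat.prime_dvd_prime_iff_eq h.hp hr).1 (h.hp.dvd_of_dvd_pow (n := j) ⟨m, by omega⟩)
  obtain ⟨P, s⟩ := exists_syl p (𝐒 a)
  have l : P ≤ 𝐂 (U a) := fun x hx => h.pC (s.pi.elt hx) (s.le hx)
  have t : ∀ g ∈ 𝐒 a, ∃ x ∈ P, x • b = g • b := fun g hg => by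
    obtain ⟨x, hx, m⟩ := Ko.syl_mul s (inf_le_left : D2 G a b ≤ _) (by
      rw [h.index2 n, e, Nat.add_sub_cancel]; exact piNat_pow_self hr j) hg
    exact ⟨x, hx, by rw [← mul_inv_cancel_left x g, mul_smul, m.2]⟩
  refine h.out_of ev (h.nC a) (s.pi.le fun g hg => ?_).nil (((h.trS a).to n.symm t).mono l)
  obtain ⟨x, hx, m⟩ := t g (h.cfix hg)
  exact inv_mul_eq_one.1 (h.n2_one k (mul_mem (inv_mem (l hx)) hg) n.symm (by rw [mul_smul, ← m, inv_smul_smul])) ▸ hx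

theorem n2_inv (j : Sw a b s) (hx : x ∈ Kv a b s) (o : PiElt {2}ᶜ x) (x1 : x ≠ 1) : Out G Ω := by
  obtain ⟨y, hy, hr⟩ := Ko.exists_prime_pow x1
  have i := GW.inv_zpowers hx.2 _ hy
  have y1 : y ≠ 1 := fun e => hr.ne_one (by rw [e, zpowers_one_eq_bot, card_bot])
  have y2 : y ≠ y⁻¹ := fun e => y1 (Ko.eq_one_of_inv (o.of_mem_zpowers hy) e)
  replace hy := zpowers_le.2 hx.1 hy
  have nz : s ∈ 𝐍 (zpowers y) := mem_norm_of_cj_le (by rw [cj_zpowers, i, zpowers_inv])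
  have fe : (𝐅 y).ncard % 2 = 0 := by
    rw [Ko.par_iv j.iv fun _ => fx_inv nz, Set.eq_empty_of_forall_notMem (s := _ ∩ _) fun c hc => ?_, Set.ncard_empty]
    have m := h.der' (fx_zp.1 hc.2) (fx_zp.1 hc.1)
    rw [i] at m
    exact y2 (eq_inv_of_mul_eq_one_left (inv_eq_one.1 (mul_inv_rev y y ▸ h.n2_one k m (j.fix_ne (fx_zp.1 hc.2)).1.symm
      (fmul (finv hy.1) (finv hy.1)))))
  have fx : ∀ c : Ω, y • c = c → c = a ∨ c = b := fun c => Ko.fx_two j.ne hy.1 hy.2 (not_lt.1 fun l => y2 (by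
    rw [← i, ← mem_cent.1 ((h.n2_kt k).cent_of_pi l fe (Ko.iv_elt j.iv) nz) y (mem_zpowers y), mul_inv_cancel_right]))
  have fp : ∀ c ∈ 𝐂 (U a), c * y = y * c → c = 1 := fun c hc e => h.n2_one k hc j.ne.symm
    ((fx _ (comm_smul e hy.2)).resolve_left (ne_of_fix (h.cfix hc) j.ne.symm))
  have ny := h.normC hy.1
  refine h.out_of ev (h.nC a) (Coprime.isNilpotent_of_fpf _ hr (orderOf_dvd_iff_pow_eq_one.1 (Nat.card_zpowers y ▸ dvd_rfl)) ny
    (eq_bot_of_forall fun c hc => fp c hc.1 (mem_cent1.1 hc.2))) (.of (b := b) fun d hd => ?_)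
  obtain ⟨g, hg, rfl⟩ := h.trS a b d j.ne.symm hd
  let φ : 𝐂 (U a) → 𝐂 (U a) := fun c => ⟨y * (c : G)⁻¹ * y⁻¹ * c, mul_mem (conj_mem_of_norm ny (inv_mem c.2)) c.2⟩
  obtain ⟨c, e⟩ := (Finite.injective_iff_surjective (f := φ)).1 (fun c c' e => Subtype.ext (mul_inv_eq_one.1 (fp _
    (mul_mem c.2 (inv_mem c'.2)) (by
      have e : y * (c : G)⁻¹ * y⁻¹ * c = y * (c' : G)⁻¹ * y⁻¹ * c' := congrArg Subtype.val e
      rw [show (c : G) * (c' : G)⁻¹ * y = c * (y⁻¹ * (y * (c' : G)⁻¹ * y⁻¹ * c'))⁻¹ * (c' : G)⁻¹ by group, ← e]; group))))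
    ⟨_, h.der' hy.1 hg⟩
  replace e : y * (c : G)⁻¹ * y⁻¹ * c = y * g * y⁻¹ * g⁻¹ := congrArg Subtype.val e
  refine ⟨c⁻¹, inv_mem c.2, inv_smul_eq_iff.2 ((fx _ ?_).resolve_left (ne_of_fix (h.cfix c.2) hd)).symm⟩
  rw [smul_smul, smul_smul, smul_smul, show y * c * g = c * (y⁻¹ * (y * (c : G)⁻¹ * y⁻¹ * c))⁻¹ * g by group, e,
    show c * (y⁻¹ * (y * g * y⁻¹ * g⁻¹))⁻¹ * g = c * g * y by group, mul_smul, hy.2]

theorem n2_main (X : Ext G Ω) (n2 : ∀ H : Subgroup G, H.index ≠ 2) : Out G Ω := by_contra fun o => by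
  have kt := h.n2_kt k
  have pp := mt (h.n2_pp k ev) o
  rcases kt.main h.big ev n2 with r | r | r
  · exact o (.inl r)
  · obtain ⟨F, _, _, -, c, -⟩ := r.psl
    obtain ⟨j, q, hj⟩ := FiniteField.card F (ringChar F)
    exact pp ⟨_, j, q, hj ▸ c⟩
  obtain ⟨a, -, b, -, n⟩ := Ko.exists_pair (Δ := (Set.univ : Set Ω)) (by have := h.big; rw [Set.ncard_univ]; omega)
  obtain ⟨s, j⟩ := h.exists_sw n
  obtain ⟨t, C⟩ := (kt.exists_ci n h.big ev).resolve_left fun q => let ⟨_, e⟩ := r s j.iv; q.fpf j.iv e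
  have one : ∀ u : G, Iv u → IsConj t u := fun u i => let ⟨_, e⟩ := r u i; C.conj' ev i e
  have ab := (kt.cyc a b n).abel
  obtain ⟨T, l⟩ := exists_syl 2 (D2 G a b)
  have n4 : Nat.card Ω % 4 ≠ 2 := fun e => pp (X.pp a b T e n l (ab.mono l.le))
  have Y : Ko.CX t a b := ⟨C, kt, ev, by rw [C.mod4 ev (Ko.odd_idx C.iv one)]; omega⟩
  have od : ∀ s, Sw a b s → ∀ y ∈ D2 G a b, PiElt {2}ᶜ y → s * y * s⁻¹ = y := fun s j y hy q =>
    n2_odd ab j hy q fun x hx q => by_contra fun x1 => o (h.n2_inv k ev j hx q x1)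
  rcases Y.cases with A | B
  · rcases Y.dich with m | N
    · have two := fun x => n2_two (x := x) Y A one m
      refine (X.ce t a b C one two fun s j => mem_cent.2 fun y hy => ?_).elim (by omega) fun e => pp ⟨3, 3, Nat.prime_three, e⟩
      obtain ⟨x, z, hx, hz, k1, k2, rfl⟩ := exists_piPart {2} y
      have hx' := zpowers_le.2 hy hx
      rw [mul_assoc, ← mul_inv_eq_iff_eq_mul.1 (od s j z (zpowers_le.2 hy hz) k2), ← mul_assoc, ← mul_assoc, mul_left_inj]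
      rcases Ko.iv_or (two x hx' k1) fun i => C.eq i hx' with rfl | rfl
      exacts [by simp, (mem_cent1.1 (C.sw_c j)).symm]
    · exact pp ⟨3, 3, Nat.prime_three, n2_card Y A one N⟩
  · obtain ⟨F, _, _, l, c, -⟩ := B.psl
    obtain ⟨M, lM, e, -⟩ := Y.cb_sgn B
    obtain ⟨y, hy, w, hw, -, e'⟩ := Y.cb_yw B (C.sw_c j) j.sq
    have hw' := Y.W_le hw
    obtain rfl := eq_mul_inv_of_mul_eq e'
    have ya : (s * w⁻¹) • a = b := by rw [mul_smul, finv hw'.1, j.ab]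
    rw [B.card a C.ha b C.hb n, relIndex_eq_one.2 fun g hg => ?_] at c
    · omega
    obtain ⟨x, z, hx, hz, k1, k2, rfl⟩ := exists_piPart {2} g
    have hz' := zpowers_le.2 hg hz
    refine mul_mem (e x (zpowers_le.2 hg hx).1 k1 (lM (zpowers_le.2 hg hx).2)) ?_
    have := B.inv a C.ha _ hy (ya ▸ n.symm) (by
      rw [← mul_assoc, ← congrArg (s * w⁻¹ * · * w⁻¹) j.inv]
      exact mul_mem (conj_mem_of_norm (Ko.norm_W (C.sw_c j)) (inv_mem hw)) (inv_mem hw)) z hz'.2 (ya ▸ hz'.1)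
    rw [show s * w⁻¹ * z * (s * w⁻¹)⁻¹ = s * (w⁻¹ * z * w) * s⁻¹ by group, ab.mul_comm (inv_mem hw') hz'.1, inv_mul_cancel_right,
      od s j z hz'.1 k2, ← pow_two] at this
    exact zpowers_le.2 this (mem_zpowers_pow_iff.2 ((piNat_compl_single_iff_coprime Nat.prime_two).1 k2).symm)

end CY

end CF.Cy
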