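import Cfsg.Agent.Cy.N
import Cfsg.Agent.Cy.N3
import Cfsg.Agent.Cy.T8
import Cfsg.Agent.Cy.F3

/-! Doubly transitive groups with a cyclic normal subgroup in the point stabiliser: the assembly. -/

set_option autoImplicit false
set_option linter.unusedSectionVars false

namespace CF.Cy

open MulAction Subgroup Cfsg CF.BG CF.Bender CF.ZD CF.Tw

universe u v

theorem ext {G : Type u} {Ω : Type v} [Group G] [Finite G] [MulAction G Ω] [Finite Ω] (h : Ko.T2 G Ω) (big : 2 < Nat.card Ω)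
    (ev : Nat.card Ω % 2 = 0) : Ext G Ω :=
  ⟨fun _ _ _ c => N.ce c ev, fun _ _ _ _ => N.dh h ev, fun _ _ _ => N.pp h big⟩

theorem hyp (p : ℕ) : Hyp.{u, v} p :=
  ⟨fun _ _ _ _ h => h.main, fun _ _ _ _ _ _ => ext, fun _ _ _ _ _ _ _ h ev n k => h.n2_main k ev (ext h.toT2 h.big ev) n,
    fun _ _ _ _ _ _ _ h o => h.after o⟩

theorem zc : ZC.{u, v} := fun G Ω _ _ _ _ h a A T nT c l n k => by
  by_cases e : ♯A = 2
  · exact two_reg h e n
  · have Y := cy_of h c e n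
    exact Y.zc (Y.out (hyp _)) a T nT ((Hk.Ks.fam_self n.norm).symm ▸ l) ((Hk.Ks.fam_self n.norm).symm ▸ k)

theorem fin {G : Type u} {Ω : Type v} [Group G] [Finite G] [MulAction G Ω] [Finite Ω] (h : Ko.T2 G Ω) {a : Ω} {Q : Subgroup G}
    (n : Q ⊴ stabilizer G a) (q1 : Q ≠ ⊥) (c : Cyc Q) : Fin G Ω Q := by
  obtain ⟨p, hp, d⟩ := exists_prime_dvd_card q1
  have e := (c.elem_Om hp d).card_prime
  by_cases k : ♯(𝛀 p Q) = 2
  · exact .inl (two_reg h k (n.Om p))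
  · have Y := cy_of h e k (n.Om p)
    exact Y.final (Y.out (hyp _)) a Q ((Hk.Ks.fam_self (n.Om p).norm).symm ▸ Om_le p Q) n c

end CF.Cy
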